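import Cfsg.Agent.Lib.AbSection.Three
import Cfsg.Agent.Lib.Block.PrincipalSums
import Cfsg.Agent.Lib.Block.PrimeDegrees
import Cfsg.Agent.Lib.Block.SubsectionApps

/-!
# The two constituents of the norm-two character

They lie in the principal block and their degrees are prime to three and differ by one.  If the
group order has only three prime divisors, one of the degrees is a prime.
-/

set_option autoImplicit false
set_option linter.unusedSectionVars false
set_option linter.style.haveILetI false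
set_option maxHeartbeats 800000

namespace Cfsg.Lib.AbSection

open Cfsg Cfsg.Lib Cfsg.Lib.Block Subgroup
open scoped ComplexConjugate

universe u

variable {G : Type u} [Group G] [Fintype G]

noncomputable local instance (priority := high) fintypeSubgroupAbSectionDegrees {A : Type u} [Group A]
    [Fintype A] (H : Subgroup A) : Fintype H := Fintype.ofFinite H

local instance : Fact (Nat.Prime 3) := ⟨by norm_num⟩

open Classical in
/-- A character with a nonzero sum over the regular part of some section lies in the principal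
block. -/
theorem mem_principal_of_section {p : ℕ} [Fact p.Prime] {M : Ideal AlgInt} (hM : IsPModular p M)
    (χ : IrrCharacter G) {u : G} (hu : ∃ k : ℕ, orderOf u = p ^ k)
    (h : ∑ y ∈ Finset.univ.filter (fun y => Commute u y ∧ ¬ p ∣ orderOf y),
      (χ : G → ℂ) (u * y) ≠ 0) : χ ∈ principalBlock M G := by
  by_contra hn
  refine h ?_
  set H := centralizer ({u} : Set G) with hH
  have hHu : ∀ y : H, Commute u (y : G) := fun y => (mem_centralizer_singleton_iff.1 y.2).symm
  set θ := secFn u H (χ : G → ℂ) with hθ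
  have hcf : IsClassFunction H θ := isClassFunction_secFn hHu χ
  have hzero : ∀ y : H, IsPRegular p y → blockPart (principalBlock M H) θ y = 0 := fun y hy => by
    have h' := blockPart_indSet hM hu hHu le_rfl (isPBlock_principal (M := M) (G := G)) χ hy
    rwa [if_neg hn, indSet_principal hM hu hHu le_rfl] at h'
  have key : ∑ y : H, pRegularPart p θ y = 0 := by
    have hexp : ∀ y : H, pRegularPart p θ y =
        ∑ η : IrrCharacter H, classInner θ (η : H → ℂ) * pRegularPart p (η : H → ℂ) y := fun y => by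
      by_cases hy : IsPRegular p y
      · rw [pRegularPart_of_reg hy]
        conv_lhs => rw [Char.eq_sum_classInner hcf]
        rw [Finset.sum_apply]
        exact Finset.sum_congr rfl fun η _ => by rw [Pi.smul_apply, smul_eq_mul, pRegularPart_of_reg hy]
      · rw [pRegularPart_of_sing hy]
        exact (Finset.sum_eq_zero fun η _ => by rw [pRegularPart_of_sing hy, mul_zero]).symm
    rw [Finset.sum_congr rfl fun y _ => hexp y, Finset.sum_comm,
      ← Finset.sum_subset (Finset.subset_univ (principalBlock M H).toFinset) fun η _ hη => by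
        rw [← Finset.mul_sum, mul_eq_zero]
        refine Or.inr (by_contra fun hne => hη (Set.mem_toFinset.2 ?_))
        exact mem_principal_of_regSum_ne hM η hne, Finset.sum_comm]
    refine Finset.sum_eq_zero fun y _ => ?_
    by_cases hy : IsPRegular p y
    · rw [← hzero y hy, blockPart, finsum_mem_eq_toFinset_sum]
      refine Finset.sum_congr rfl fun η _ => ?_
      rw [pRegularPart_of_reg hy]
    · exact Finset.sum_eq_zero fun η _ => by rw [pRegularPart_of_sing hy, mul_zero]
  rw [← key, ← Finset.sum_filter_add_sum_filter_not Finset.univ (fun y : H => IsPRegular p y),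
    Finset.sum_eq_zero (s := Finset.univ.filter fun y : H => ¬ IsPRegular p y) fun y hy => by
      rw [pRegularPart_of_sing (Finset.mem_filter.1 hy).2], add_zero]
  refine Finset.sum_bij' (fun y hy => (⟨y, mem_centralizer_singleton_iff.2
      (Finset.mem_filter.1 hy).2.1.symm.eq⟩ : H)) (fun y _ => (y : G)) ?_ ?_ (fun _ _ => rfl)
      (fun _ _ => rfl) ?_
  · intro y hy
    refine Finset.mem_filter.2 ⟨Finset.mem_univ _, ?_⟩
    rw [IsPRegular, orderOf_mk]; exact (Finset.mem_filter.1 hy).2.2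
  · intro y hy
    exact Finset.mem_filter.2 ⟨Finset.mem_univ _, hHu y, by
      rw [orderOf_coe]; exact (Finset.mem_filter.1 hy).2⟩
  · intro y hy
    rw [pRegularPart_of_reg (by
      show IsPRegular p (⟨y, _⟩ : H)
      rw [IsPRegular, orderOf_mk]; exact (Finset.mem_filter.1 hy).2.2)]
    rfl

variable {P : Sylow 3 G} [IsMulCommutative (P : Subgroup G)] (C : Cfg3 P)

namespace Cfg3

open Classical in
theorem mem_principal {M : Ideal AlgInt} (hM : IsPModular 3 M) (χ : IrrCharacter G)
    (h : classInner C.Y (χ : G → ℂ) ≠ 0) : χ ∈ principalBlock M G := by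
  by_contra hn
  refine h ?_
  have hzero : ∀ u : G, (∃ k : ℕ, orderOf u = 3 ^ k) →
      ∑ y ∈ Finset.univ.filter (fun y => Commute u y ∧ ¬ 3 ∣ orderOf y), (χ : G → ℂ) (u * y) = 0 :=
    fun u hu => by_contra fun hne => hn (mem_principal_of_section hM χ hu hne)
  rw [classInner, mul_eq_zero]
  refine Or.inr ?_
  rw [← Finset.sum_fiberwise Finset.univ (fun g => pPt 3 g)]
  refine Finset.sum_eq_zero fun z _ => ?_
  rw [Finset.sum_congr rfl (g := fun g => (1 - 3 * C.J z) * conj ((χ : G → ℂ) g)) fun g hg => by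
    rw [Y, (Finset.mem_filter.1 hg).2], ← Finset.mul_sum, ← map_sum, mul_eq_zero]
  refine Or.inr ((map_eq_zero _).2 ?_)
  by_cases hz : ∃ g, pPt 3 g = z
  · obtain ⟨g₀, hg₀⟩ := hz
    obtain ⟨k, hk⟩ := exists_orderOf_pPt (p := 3) g₀
    rw [hg₀] at hk
    rw [← hzero z ⟨k, hk⟩]
    refine Finset.sum_bij' (fun g _ => pReg 3 g) (fun y _ => z * y) ?_ ?_ ?_ ?_ ?_
    · intro g hg
      simp only [Finset.mem_filter, Finset.mem_univ, true_and] at hg ⊢
      exact ⟨hg ▸ pPt_commute_pReg g, not_dvd_orderOf_pReg g⟩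
    · intro y hy
      simp only [Finset.mem_filter, Finset.mem_univ, true_and] at hy ⊢
      exact (eq_pPt rfl hy.1 hk hy.2).symm
    · intro g hg
      simp only [Finset.mem_filter, Finset.mem_univ, true_and] at hg
      nth_rw 1 [← hg]; exact pPt_mul_pReg g
    · intro y hy
      simp only [Finset.mem_filter, Finset.mem_univ, true_and] at hy
      have h2 := pPt_mul_pReg (p := 3) (z * y)
      rw [← eq_pPt rfl hy.1 hk hy.2] at h2
      exact mul_left_cancel h2
    · intro g hg
      simp only [Finset.mem_filter, Finset.mem_univ, true_and] at hg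
      nth_rw 1 [← pPt_mul_pReg (p := 3) g]
      rw [hg]
  · exact Finset.sum_eq_zero fun g hg => absurd ⟨g, (Finset.mem_filter.1 hg).2⟩ hz

/-- A nontrivial constituent has degree prime to three when the Sylow subgroup has order nine. -/
theorem not_three_dvd (hT : C.T ≠ normalizer ((P : Subgroup G) : Set G)) {k : ℕ}
    (hk : Nat.card G = 9 * k) (hk3 : ¬ 3 ∣ k) (χ : IrrCharacter G) (hχ : χ ≠ trivChar G) {e : ℤ}
    (he : e * e = 1) (hc : classInner C.Y (χ : G → ℂ) = e) : ¬ 3 ∣ charDegree (χ : G → ℂ) := by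
  classical
  intro h3
  obtain ⟨m, hm⟩ := h3
  obtain ⟨M, hM⟩ := exists_isPModular (q := 3) (by norm_num)
  have hB : χ ∈ principalBlock M G := C.mem_principal hM χ (by
    rw [hc]; exact Int.cast_ne_zero.2 fun h0 => by rw [h0] at he; norm_num at he)
  set f : G → ℂ := fun g => C.J (pPt 3 g) with hf
  have hfc : IsClassFunction G f := fun g x => by simp only [hf, pPt_conj, C.J_conj]
  have hv : VInt hM (vec f) := fun g => by
    rw [zc_vec hfc]
    rcases C.J_cases (pPt 3 g) with h | h <;> simp only [hf, h]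
    · exact zero_mem _
    · exact one_mem _
  have hsame : χ ∈ blockOf M ((trivChar G : IrrCharacter G) : G → ℂ) := hB
  have hmem := apply_sub_apply_mem hM hv (mem_blockOf.1 hsame)
  have ht : vec f (trivChar G) = 3 * k := by
    have := C.sum_J hT
    rw [hk] at this
    simp only [vec, hf, trivChar_coe, mul_one, div_one]
    push_cast at this ⊢
    linear_combination this / 3
  have hχ' : vec f χ * (m : ℂ) = -(e : ℂ) * k := by
    have hsum : ∑ g, C.J (pPt 3 g) * (χ : G → ℂ) g = -(3 : ℂ) * k * e := by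
      have h1 : classInner (χ : G → ℂ) C.Y = (e : ℂ) := by
        rw [← Char.classInner_conj_symm, hc, map_intCast]
      have h0 : ∑ g, (χ : G → ℂ) g = 0 := by
        have := Char.classInner_irr_ne χ.2 Char.isIrrCharacter_one fun h => hχ (Subtype.ext h)
        rw [Char.classInner_one_right, mul_eq_zero] at this
        exact this.resolve_left (inv_ne_zero (Nat.cast_ne_zero.2 Nat.card_pos.ne'))
      rw [classInner, Finset.sum_congr rfl (g := fun g =>
          (χ : G → ℂ) g - 3 * (C.J (pPt 3 g) * (χ : G → ℂ) g)) fun g _ => by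
            rw [C.conj_Y, Y]; ring,
        Finset.sum_sub_distrib, h0, zero_sub, ← Finset.mul_sum,
        inv_mul_eq_iff_eq_mul₀ (Nat.cast_ne_zero.2 Nat.card_pos.ne'), hk] at h1
      push_cast at h1
      linear_combination -h1 / 3
    simp only [vec, hf]
    rw [hsum, apply_one_eq_charDegree, hm]
    have hm0 : (m : ℂ) ≠ 0 := Nat.cast_ne_zero.2 fun h0 => by
      have := charDegree_pos χ; rw [hm, h0] at this; omega
    push_cast
    field_simp
  have h1 := memLocalIdeal_mul_left hM (natCast_mem (locRing hM) m) hmem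
  have e2 : (m : ℂ) * (vec f (trivChar G) - vec f χ) = ((3 * k * m + e * k : ℤ) : ℂ) := by
    rw [mul_sub, ht, mul_comm _ (vec f χ), hχ']
    push_cast; ring
  rw [e2] at h1
  have h2 := int_dvd_of_memLocalIdeal hM h1
  have h4 : (3 : ℤ) ∣ e * k := by
    have h5 := Int.dvd_sub h2 (dvd_mul_of_dvd_left (dvd_mul_right (3 : ℤ) k) m)
    simpa using h5
  rcases Int.eq_one_or_neg_one_of_mul_eq_one he with rfl | rfl
  · exact hk3 (by exact_mod_cast (by simpa using h4 : (3 : ℤ) ∣ k))
  · exact hk3 (by exact_mod_cast (by simpa using h4 : (3 : ℤ) ∣ k))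

theorem degree_facts {q a b : ℕ} (hq : q.Prime) (hq2 : q ≠ 2) (hq3 : q ≠ 3)
    {d : ℕ} (hd : d ∣ 9 * 2 ^ a * q ^ b) (h3 : ¬ 3 ∣ d) :
    ∃ i j, d = 2 ^ i * q ^ j := by
  have hc : d.Coprime 9 := by
    rw [show (9 : ℕ) = 3 ^ 2 by norm_num]
    exact ((Nat.prime_three.coprime_iff_not_dvd.2 h3).symm).pow_right 2
  have h1 : d ∣ 2 ^ a * q ^ b := by
    rw [mul_assoc] at hd
    exact hc.dvd_of_dvd_mul_left hd
  obtain ⟨u, v, hu, hv, rfl⟩ := exists_dvd_and_dvd_of_dvd_mul h1
  obtain ⟨i, -, rfl⟩ := (Nat.dvd_prime_pow Nat.prime_two).1 hu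
  obtain ⟨j, -, rfl⟩ := (Nat.dvd_prime_pow hq).1 hv
  exact ⟨i, j, rfl⟩

/-- The constituents: one has degree `q`, the other a power of two next to it. -/
theorem exists_pair [IsSimpleGroup G] (hnc : ¬ ∀ a b : G, a * b = b * a) {q a b : ℕ}
    (hq : q.Prime) (hq2 : q ≠ 2) (hq3 : q ≠ 3) (hcard : Nat.card G = 9 * 2 ^ a * q ^ b) :
    ∃ (χ ψ : IrrCharacter G) (e e' : ℤ), (∀ g : G, C.Y g = (e : ℂ) * (χ : G → ℂ) g + (e' : ℂ) * (ψ : G → ℂ) g) ∧
      charDegree (χ : G → ℂ) = q ∧ ¬ 3 ∣ charDegree (ψ : G → ℂ) ∧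
      ((charDegree (ψ : G → ℂ) + 1 = q ∧ e = 1 ∧ e' = -1) ∨
        (charDegree (ψ : G → ℂ) = q + 1 ∧ e = -1 ∧ e' = 1)) := by
  classical
  have hT := C.T_ne hnc
  obtain ⟨e₁, e₂, χ₁, χ₂, hne, he₁, he₂, hc₁, hc₂, hY⟩ :=
    SmithTyrer.exists_two_signed C.isGeneralized (C.norm_two hT)
  have hk : Nat.card G = 9 * (2 ^ a * q ^ b) := by rw [hcard, mul_assoc]
  have hk3 : ¬ 3 ∣ 2 ^ a * q ^ b := fun h => by
    rcases Nat.prime_three.dvd_mul.1 h with h1 | h1
    · exact absurd ((Nat.prime_dvd_prime_iff_eq Nat.prime_three Nat.prime_two).1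
        (Nat.prime_three.dvd_of_dvd_pow h1)) (by norm_num)
    · exact hq3 ((Nat.prime_dvd_prime_iff_eq Nat.prime_three hq).1 (Nat.prime_three.dvd_of_dvd_pow h1)).symm
  have hnt : ∀ χ : IrrCharacter G, ∀ e : ℤ, e * e = 1 → classInner C.Y (χ : G → ℂ) = e →
      χ ≠ trivChar G := fun χ e he hc h => by
    rw [h, trivChar_coe, C.inner_one hT] at hc
    have : e = 0 := by exact_mod_cast hc.symm
    rw [this] at he; norm_num at he
  have facts : ∀ χ : IrrCharacter G, ∀ e : ℤ, e * e = 1 → classInner C.Y (χ : G → ℂ) = e →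
      ∃ i j, charDegree (χ : G → ℂ) = 2 ^ i * q ^ j ∧ 2 ≤ charDegree (χ : G → ℂ) := fun χ e he hc => by
    obtain ⟨i, j, hij⟩ := degree_facts hq hq2 hq3 (hcard ▸ Block.charDegree_dvd_card χ)
      (C.not_three_dvd hT hk hk3 χ (hnt χ e he hc) he hc)
    refine ⟨i, j, hij, ?_⟩
    have h1 := degree_ne_one hnc (hnt χ e he hc)
    have h2 := charDegree_pos χ
    omega
  obtain ⟨i₁, j₁, hd₁, hl₁⟩ := facts χ₁ e₁ he₁ hc₁
  obtain ⟨i₂, j₂, hd₂, hl₂⟩ := facts χ₂ e₂ he₂ hc₂
  have h1 := hY 1
  rw [C.Y_one_of_regular (by simp), apply_one_eq_charDegree, apply_one_eq_charDegree] at h1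
  have hrel : e₁ * (charDegree (χ₁ : G → ℂ) : ℤ) + e₂ * (charDegree (χ₂ : G → ℂ) : ℤ) = 1 := by
    exact_mod_cast h1.symm
  have hdiff : charDegree (χ₁ : G → ℂ) = charDegree (χ₂ : G → ℂ) + 1 ∨
      charDegree (χ₂ : G → ℂ) = charDegree (χ₁ : G → ℂ) + 1 := by
    rcases Int.eq_one_or_neg_one_of_mul_eq_one he₁ with rfl | rfl <;>
      rcases Int.eq_one_or_neg_one_of_mul_eq_one he₂ with rfl | rfl <;> omega
  -- consecutive numbers `2 ^ i * q ^ j`, both at least two
  have key : ∀ x y : ℕ, x = y + 1 ∨ y = x + 1 → 2 ≤ x → 2 ≤ y → ∀ i j i' j' : ℕ, x = 2 ^ i * q ^ j →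
      y = 2 ^ i' * q ^ j' → Odd x → x = q := by
    intro x y hxy hx hy i j i' j' hxe hye hodd
    have hi : i = 0 := by
      by_contra hi
      exact (Nat.not_even_iff_odd.2 hodd) (hxe ▸ (Nat.even_pow.2 ⟨even_two, hi⟩).mul_right _)
    subst hi
    rw [pow_zero, one_mul] at hxe
    have hj : j ≠ 0 := fun h0 => by rw [h0, pow_zero] at hxe; omega
    have hj' : j' = 0 := by
      by_contra hj'
      have hqx : q ∣ x := hxe ▸ dvd_pow_self q hj
      have hqy : q ∣ y := hye ▸ dvd_mul_of_dvd_right (dvd_pow_self q hj') _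
      rcases hxy with h | h
      · exact hq.ne_one (Nat.dvd_one.1 ((Nat.dvd_add_right hqy).1 (h ▸ hqx)))
      · exact hq.ne_one (Nat.dvd_one.1 ((Nat.dvd_add_right hqx).1 (h ▸ hqy)))
    subst hj'
    rw [pow_zero, mul_one] at hye
    suffices j = 1 by rw [hxe, this, pow_one]
    by_contra hj1
    have hq5 : 5 ≤ q := by
      have := hq.two_le
      by_contra h
      interval_cases q <;> first | omega | exact absurd hq (by norm_num)
    rcases Nat.even_or_odd j with ⟨c, hc⟩ | hjodd
    · -- a square next to a power of two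
      have hsq : x = q ^ c * q ^ c := by rw [hxe, hc, pow_add]
      have hc0 : q ≤ q ^ c := Nat.le_self_pow (by omega) q
      rcases hxy with h | h
      · have hprod : (q ^ c - 1) * (q ^ c + 1) = 2 ^ i' := by
          rw [← hye]
          zify [(by omega : 1 ≤ q ^ c)]
          have : (x : ℤ) = y + 1 := by exact_mod_cast h
          rw [hsq] at this
          push_cast at this
          linear_combination this
        obtain ⟨u, -, hu⟩ := (Nat.dvd_prime_pow Nat.prime_two).1 (Dvd.intro _ hprod)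
        obtain ⟨v, -, hv⟩ := (Nat.dvd_prime_pow Nat.prime_two).1 (Dvd.intro_left _ hprod)
        have huv : 2 ^ v = 2 ^ u + 2 := by omega
        rcases Nat.lt_or_ge u 2 with hu2 | hu2
        · interval_cases u <;> omega
        · rcases Nat.lt_or_ge v 2 with hv2 | hv2
          · interval_cases v <;> omega
          · have h4 : 4 ∣ 2 ^ u := (by norm_num : (4:ℕ) = 2 ^ 2) ▸ pow_dvd_pow 2 hu2
            have h5 : 4 ∣ 2 ^ v := (by norm_num : (4:ℕ) = 2 ^ 2) ▸ pow_dvd_pow 2 hv2
            omega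
      · -- a square plus one is not divisible by four
        rcases Nat.lt_or_ge i' 2 with hi2 | hi2
        · interval_cases i' <;> omega
        · have h4 : 4 ∣ 2 ^ i' := (by norm_num : (4:ℕ) = 2 ^ 2) ▸ pow_dvd_pow 2 hi2
          have hqo : Odd (q ^ c) := (hq.odd_of_ne_two hq2).pow
          obtain ⟨t, ht⟩ := hqo
          rw [← hye, h, hsq, ht] at h4
          have e : (2 * t + 1) * (2 * t + 1) + 1 = 4 * (t * t + t) + 2 := by ring
          omega
    · -- an odd power next to a power of two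
      obtain ⟨t, ht⟩ := hjodd
      have ho : Odd q := hq.odd_of_ne_two hq2
      rcases hxy with h | h
      · have hg : (∑ s ∈ Finset.range j, q ^ s) * (q - 1) = 2 ^ i' := by
          have hgs := geom_sum_mul_add (q - 1) j
          rw [Nat.sub_add_cancel hq.one_le, ← hxe, h, hye] at hgs
          omega
        obtain ⟨w, -, hw⟩ := (Nat.dvd_prime_pow Nat.prime_two).1 (Dvd.intro _ hg)
        have hsum_odd : Odd (∑ s ∈ Finset.range j, q ^ s) := by
          rw [Finset.odd_sum_iff_odd_card_odd, Finset.filter_true_of_mem fun s _ => ho.pow,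
            Finset.card_range]
          exact ⟨t, ht⟩
        rw [hw] at hsum_odd
        have hw0 : w = 0 := by
          by_contra hw0
          exact (Nat.not_even_iff_odd.2 hsum_odd) (Nat.even_pow.2 ⟨even_two, hw0⟩)
        rw [hw0, pow_zero] at hw
        have hle : ∑ s ∈ Finset.range 2, q ^ s ≤ ∑ s ∈ Finset.range j, q ^ s :=
          Finset.sum_le_sum_of_subset (Finset.range_mono (by omega))
        rw [hw, Finset.sum_range_succ, Finset.sum_range_one] at hle
        simp at hle
        omega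
      · have hg : ((∑ s ∈ Finset.range j, (-(q : ℤ)) ^ s) * ((q : ℤ) + 1)) = 2 ^ i' := by
          have hgs := geom_sum_mul (-(q : ℤ)) j
          have hoj : Odd j := ⟨t, ht⟩
          rw [hoj.neg_pow] at hgs
          have h' : (y : ℤ) = (q : ℤ) ^ j + 1 := by exact_mod_cast (hxe ▸ h)
          have hye' : (y : ℤ) = 2 ^ i' := by exact_mod_cast hye
          rw [← hye', h']
          linear_combination -hgs
        have heven : ∀ n, Even (∑ s ∈ Finset.range n, (-(q : ℤ)) ^ s) ↔ Even n := by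
          intro n
          induction n with
          | zero => simp
          | succ n ih =>
            rw [Finset.sum_range_succ, Int.even_add, ih, Nat.even_add_one]
            have : ¬ Even ((-(q : ℤ)) ^ n) :=
              Int.not_even_iff_odd.2 ((Int.odd_coe_nat q).2 ho).neg.pow
            tauto
        have hpar : Odd (∑ s ∈ Finset.range j, (-(q : ℤ)) ^ s) :=
          Int.not_even_iff_odd.1 fun h2 => (Nat.not_even_iff_odd.2 ⟨t, ht⟩) ((heven j).1 h2)
        set s := ∑ r ∈ Finset.range j, (-(q : ℤ)) ^ r with hs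
        have hdvd : s.natAbs ∣ 2 ^ i' := by
          have := Int.natAbs_dvd_natAbs.2 (Dvd.intro _ hg)
          rwa [Int.natAbs_pow] at this
        obtain ⟨w, -, hw⟩ := (Nat.dvd_prime_pow Nat.prime_two).1 hdvd
        have hw0 : w = 0 := by
          by_contra hw0
          exact (Nat.not_even_iff_odd.2 (Int.natAbs_odd.2 hpar)) (hw ▸ Nat.even_pow.2 ⟨even_two, hw0⟩)
        rw [hw0, pow_zero] at hw
        have hbig : (q : ℤ) + 1 < (q : ℤ) ^ j + 1 := by
          have : q ^ 1 < q ^ j := Nat.pow_lt_pow_right hq.one_lt (by omega)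
          rw [pow_one] at this
          have : (q : ℤ) < (q : ℤ) ^ j := by exact_mod_cast this
          omega
        have h' : (y : ℤ) = (q : ℤ) ^ j + 1 := by exact_mod_cast (hxe ▸ h)
        have hye' : (y : ℤ) = 2 ^ i' := by exact_mod_cast hye
        rw [← hye', h'] at hg
        rcases Int.natAbs_eq_iff.1 hw with h1 | h1 <;> rw [h1] at hg <;> push_cast at hg <;> omega
  have fin : ∀ (χ ψ : IrrCharacter G) (e e' : ℤ), e * e = 1 → e' * e' = 1 →
      classInner C.Y (ψ : G → ℂ) = e' →
      (∀ g : G, C.Y g = (e : ℂ) * (χ : G → ℂ) g + (e' : ℂ) * (ψ : G → ℂ) g) →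
      charDegree (χ : G → ℂ) = q →
      e * (charDegree (χ : G → ℂ) : ℤ) + e' * (charDegree (ψ : G → ℂ) : ℤ) = 1 →
      ∃ (χ ψ : IrrCharacter G) (e e' : ℤ),
        (∀ g : G, C.Y g = (e : ℂ) * (χ : G → ℂ) g + (e' : ℂ) * (ψ : G → ℂ) g) ∧
        charDegree (χ : G → ℂ) = q ∧ ¬ 3 ∣ charDegree (ψ : G → ℂ) ∧
        ((charDegree (ψ : G → ℂ) + 1 = q ∧ e = 1 ∧ e' = -1) ∨
          (charDegree (ψ : G → ℂ) = q + 1 ∧ e = -1 ∧ e' = 1)) := by
    intro χ ψ e e' he he' hc' hY' hdeg hrel'
    refine ⟨χ, ψ, e, e', hY', hdeg, C.not_three_dvd hT hk hk3 ψ (hnt ψ e' he' hc') he' hc', ?_⟩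
    have h2 := hq.two_le
    have h3 := charDegree_pos ψ
    rw [hdeg] at hrel'
    rcases Int.eq_one_or_neg_one_of_mul_eq_one he with rfl | rfl <;>
      rcases Int.eq_one_or_neg_one_of_mul_eq_one he' with rfl | rfl
    · omega
    · exact Or.inl ⟨by omega, rfl, rfl⟩
    · exact Or.inr ⟨by omega, rfl, rfl⟩
    · omega
  rcases Nat.even_or_odd (charDegree (χ₁ : G → ℂ)) with hev | hodd
  · refine fin χ₂ χ₁ e₂ e₁ he₂ he₁ hc₁ (fun g => by rw [hY g, add_comm])
      (key _ _ hdiff.symm hl₂ hl₁ i₂ j₂ i₁ j₁ hd₂ hd₁ ?_) (by rw [add_comm]; exact hrel)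
    obtain ⟨c, hc⟩ := hev
    rcases hdiff with h | h
    · exact ⟨c - 1, by omega⟩
    · exact ⟨c, by omega⟩
  · exact fin χ₁ χ₂ e₁ e₂ he₁ he₂ hc₂ hY (key _ _ hdiff hl₁ hl₂ i₁ j₁ i₂ j₂ hd₁ hd₂ hodd) hrel

include C in
/-- Some irreducible character has prime degree `q`. -/
theorem exists_prime_degree [IsSimpleGroup G] (hnc : ¬ ∀ a b : G, a * b = b * a) {q a b : ℕ}
    (hq : q.Prime) (hq2 : q ≠ 2) (hq3 : q ≠ 3) (hcard : Nat.card G = 9 * 2 ^ a * q ^ b) :
    ∃ χ : IrrCharacter G, charDegree (χ : G → ℂ) = q := by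
  obtain ⟨χ, -, -, -, -, h, -⟩ := C.exists_pair hnc hq hq2 hq3 hcard
  exact ⟨χ, h⟩

include C in
/-- The prime `q` divides the order only once. -/
theorem exponent_one [IsSimpleGroup G] (hnc : ¬ ∀ a b : G, a * b = b * a) {q a b : ℕ}
    (hq : q.Prime) (hq2 : q ≠ 2) (hq3 : q ≠ 3) (hcard : Nat.card G = 9 * 2 ^ a * q ^ b) : b = 1 := by
  haveI : Fact q.Prime := ⟨hq⟩
  obtain ⟨χ, hχ⟩ := C.exists_prime_degree hnc hq hq2 hq3 hcard
  obtain ⟨Q⟩ : Nonempty (Sylow q G) := inferInstance
  have h := Block.sylow_card_of_degree hnc hχ Q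
  rw [Q.card_eq_multiplicity] at h
  have h1 : (Nat.card G).factorization q = 1 :=
    Nat.pow_right_injective hq.two_le (by simpa using h)
  have hfac : (Nat.card G).factorization q = b := by
    rw [hcard, Nat.factorization_mul (by positivity) (pow_ne_zero _ hq.ne_zero), Finsupp.add_apply,
      Nat.Prime.factorization_pow hq, Finsupp.single_eq_same,
      Nat.factorization_eq_zero_of_not_dvd, zero_add]
    intro hdvd
    rcases hq.dvd_mul.1 hdvd with h' | h'
    · rw [show (9 : ℕ) = 3 ^ 2 by norm_num] at h'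
      exact hq3 ((Nat.prime_dvd_prime_iff_eq hq Nat.prime_three).1 (hq.dvd_of_dvd_pow h'))
    · exact hq2 ((Nat.prime_dvd_prime_iff_eq hq Nat.prime_two).1 (hq.dvd_of_dvd_pow h'))
  omega

end Cfg3

end Cfsg.Lib.AbSection
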