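import Cfsg.Agent.Lib.AbSection.Degrees
import Cfsg.Agent.Lib.Small.BlockOrders
import Cfsg.Agent.Lib.Small.Gap.Tools
import Cfsg.Agent.Lib.MEleven.Basic
import Cfsg.Agent.Lib.Block.RootValuesCore

/-!
# The primes five and seven

`|G| = 9 * 2 ^ a * q` with constituents of degrees `{4, 5}` or `{7, 8}`: five is impossible and
seven forces `2 ^ a ∣ 8`.
-/

set_option autoImplicit false
set_option linter.unusedSectionVars false
set_option linter.style.haveILetI false
set_option maxHeartbeats 800000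

namespace Cfsg.Lib.AbSection

open Cfsg Cfsg.Lib Cfsg.Lib.Small Subgroup
open scoped ComplexConjugate

universe u

variable {G : Type u} [Group G] [Fintype G]

noncomputable local instance (priority := high) fintypeSubgroupAbSectionSmall {A : Type u} [Group A]
    [Fintype A] (H : Subgroup A) : Fintype H := Fintype.ofFinite H

/-- The eigenvalues of an element in a perfect group. -/
theorem exists_eigen [IsSimpleGroup G] (hnc : ¬ IsCyclic G) (χ : IrrCharacter G) (g : G) {N : ℕ}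
    (hN : g ^ N = 1) :
    ∃ μ : Fin (charDegree (χ : G → ℂ)) → ℂ, (∀ i : ℕ, (χ : G → ℂ) (g ^ i) = ∑ j, μ j ^ i) ∧
      (∀ j, μ j ^ N = 1) ∧ ∏ j, μ j = 1 := by
  obtain ⟨n, ρ, -, hρ⟩ := χ.2
  obtain ⟨b, μ, hb, hμ⟩ := Char.exists_eigenbasis ρ g
  have hval : ∀ i : ℕ, (χ : G → ℂ) (g ^ i) = ∑ j, μ j ^ i := by
    intro i
    have hp' : ∀ (k : ℕ) j, ρ (g ^ k) (b j) = μ j ^ k • b j := by
      intro k j
      induction k with
      | zero => simp
      | succ k ih => rw [pow_succ, map_mul, Module.End.mul_apply, hb, map_smul, ih, smul_smul, pow_succ']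
    rw [← hρ]
    exact Char.trace_eq_sum_of_eigenbasis _ b _ (hp' i)
  have hd : charDegree (χ : G → ℂ) = Module.finrank ℂ (Fin n → ℂ) := by
    have h := hval 0
    simp only [pow_zero, Finset.sum_const, Finset.card_univ, nsmul_one, Block.apply_one_eq_charDegree,
      Fintype.card_fin] at h
    exact_mod_cast h
  rw [hd]
  refine ⟨μ, hval, fun j => ?_, prod_eigen_eq_one (commutator_eq_top hnc) ρ g b μ hb⟩
  obtain ⟨k, hk⟩ := orderOf_dvd_of_pow_eq_one hN
  rw [hk, pow_mul, hμ, one_pow]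

/-- At an involution the number of eigenvalues `-1` is even. -/
theorem invol_value [IsSimpleGroup G] (hnc : ¬ IsCyclic G) (χ : IrrCharacter G) {t : G}
    (ht : t ^ 2 = 1) :
    ∃ k : ℕ, (χ : G → ℂ) t = (((charDegree (χ : G → ℂ) : ℤ) - 4 * k : ℤ) : ℂ) := by
  classical
  obtain ⟨μ, hval, hroot, hprod⟩ := exists_eigen hnc χ t ht
  set A := Finset.univ.filter fun j => μ j = -1 with hA
  have hrest : ∀ j, j ∉ A → μ j = 1 := fun j hj =>
    (sq_eq_one_iff.1 (hroot j)).resolve_right fun h => hj (Finset.mem_filter.2 ⟨Finset.mem_univ _, h⟩)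
  rw [← Finset.prod_subset (Finset.subset_univ A) fun j _ hj => hrest j hj,
    Finset.prod_congr rfl fun j hj => (Finset.mem_filter.1 hj).2, Finset.prod_const] at hprod
  obtain ⟨k, hk⟩ := (neg_one_pow_eq_one_iff_even (by norm_num : (-1 : ℂ) ≠ 1)).1 hprod
  refine ⟨k, ?_⟩
  have h := hval 1
  rw [pow_one] at h
  simp only [pow_one] at h
  rw [h, Finset.sum_congr rfl (g := fun j => 1 - (if j ∈ A then (2 : ℂ) else 0)) fun j _ => by
      split_ifs with hj
      · rw [(Finset.mem_filter.1 hj).2]; norm_num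
      · rw [hrest j hj, sub_zero],
    Finset.sum_sub_distrib, Finset.sum_ite_mem, Finset.univ_inter, Finset.sum_const, Finset.sum_const,
    Finset.card_univ, Fintype.card_fin, hk]
  push_cast
  ring

/-- A character of prime degree forces a self-centralizing Sylow subgroup of that order. -/
theorem centralizer_card [IsSimpleGroup G] (hnc : ¬ IsCyclic G) {q m : ℕ} [Fact q.Prime]
    (hm : Nat.card G = q * m) (hqm : ¬ q ∣ m) (Q : Sylow q G) (hQ : Nat.card (Q : Subgroup G) = q)
    (χ : IrrCharacter G) (hd : charDegree (χ : G → ℂ) = q) :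
    Nat.card (centralizer ((Q : Subgroup G) : Set G)) = q := by
  classical
  have hq : q.Prime := Fact.out
  set C := centralizer ((Q : Subgroup G) : Set G) with hC
  obtain ⟨c, hc⟩ : q ∣ Nat.card C := by
    have := card_dvd_of_le (Block.le_centralizer_self hQ); rwa [hQ] at this
  by_contra hne
  have hc1 : c ≠ 1 := fun h => hne (by rw [hc, h, mul_one])
  obtain ⟨r, hr, hrc⟩ := Nat.exists_prime_and_dvd hc1
  have hrq : r ≠ q := by
    rintro rfl
    exact hqm ((Nat.mul_dvd_mul_iff_left hq.pos).1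
      (hm ▸ (mul_dvd_mul_left r hrc).trans (hc ▸ card_subgroup_dvd_card C)))
  haveI := Fact.mk hr
  obtain ⟨⟨y, hyC⟩, hy⟩ := exists_prime_orderOf_dvd_card' (G := C) r (hc ▸ dvd_mul_of_dvd_right hrc q)
  rw [orderOf_mk] at hy
  haveI : Nontrivial (Q : Subgroup G) := by
    rw [← Finite.one_lt_card_iff_nontrivial, hQ]; exact hq.one_lt
  obtain ⟨⟨x, hx⟩, hx1'⟩ := exists_ne (1 : (Q : Subgroup G))
  have hxo : orderOf x = q := by
    rw [← Nat.card_zpowers,
      zpowers_eq_of_prime_card hQ hx (fun h => hx1' (Subtype.ext h)), hQ]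
  have hxy : Commute x y := mem_centralizer_iff.1 hyC x hx
  have hzo : orderOf (x * y) = q * r := by
    rw [hxy.orderOf_mul_eq_mul_orderOf_of_coprime
      (by rw [hxo, hy]; exact (Nat.coprime_primes hq hr).2 hrq.symm), hxo, hy]
  set A := zpowers (x * y) with hA
  have hAcard : Nat.card A = q * r := by rw [hA, Nat.card_zpowers, hzo]
  have hvan : ∀ g : G, q ∣ orderOf g → (χ : G → ℂ) g = 0 := fun g hg =>
    MEleven.apply_eq_zero_of_defectZero χ (by
      show (charDegree (χ : G → ℂ)).factorization q = _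
      rw [hd, hq.factorization_self, hm, Nat.factorization_mul hq.ne_zero
        (fun h => hqm (by rw [h]; exact dvd_zero q)), Finsupp.add_apply, hq.factorization_self,
        Nat.factorization_eq_zero_of_not_dvd hqm]) hg
  set ψ : A → ℂ := fun a => (χ : G → ℂ) a with hψ
  have hch : IsCharacter A ψ := χ.2.isCharacter.comp A.subtype
  obtain ⟨N, hN, hN'⟩ := Block.RootValues.exists_norm hch
  have hle : q ≤ N := Block.RootValues.degree_le_norm (fun a b => mul_comm' a b) hch
    (show ψ 1 = (q : ℂ) by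
      show (χ : G → ℂ) (1 : G) = _
      rw [Block.apply_one_eq_charDegree, hd]) hN
  have hbound : ∀ g : G, ‖(χ : G → ℂ) g‖ ≤ q := fun g => by
    obtain ⟨μ, hval, hroot, -⟩ := exists_eigen hnc χ g (pow_orderOf_eq_one g)
    have h := hval 1
    rw [pow_one] at h
    rw [h]
    refine (norm_sum_le _ _).trans ?_
    rw [Finset.sum_congr rfl (g := fun _ => (1 : ℝ)) fun j _ => by
      rw [pow_one, Complex.norm_eq_one_of_pow_eq_one (hroot j) (orderOf_pos g).ne']]
    simp [hd]
  -- the regular part of `A`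
  set R := (Finset.univ : Finset A).filter fun a => a ^ r = 1 with hR
  have hRcard : R.card ≤ r := IsCyclic.card_pow_eq_one_le hr.pos
  have hzero : ∀ a : A, a ∉ R → ψ a = 0 := by
    intro a ha
    refine hvan a ?_
    by_contra hnd
    refine ha (Finset.mem_filter.2 ⟨Finset.mem_univ _, orderOf_dvd_iff_pow_eq_one.1 ?_⟩)
    have h1 : orderOf a ∣ q * r := hAcard ▸ _root_.orderOf_dvd_natCard a
    rw [orderOf_coe] at hnd
    exact ((hq.coprime_iff_not_dvd.2 hnd).symm).dvd_of_dvd_mul_left h1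
  rw [← Finset.sum_subset (Finset.subset_univ R) fun a _ ha => by
    rw [hzero a ha, norm_zero, zero_pow two_ne_zero], hAcard] at hN'
  have hyA : (y : G) ^ q ∈ A ∧ y ^ q ≠ 1 := by
    constructor
    · have : (x * y) ^ q = y ^ q := by rw [hxy.mul_pow, ← hxo, pow_orderOf_eq_one, one_mul]
      rw [← this]; exact pow_mem (mem_zpowers _) q
    · intro h
      exact hrq ((Nat.prime_dvd_prime_iff_eq hr hq).1 (hy ▸ orderOf_dvd_of_pow_eq_one h))
  have hyR : (⟨_, hyA.1⟩ : A) ∈ R := Finset.mem_filter.2 ⟨Finset.mem_univ _, Subtype.ext (by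
    show (y ^ q) ^ r = 1
    rw [← pow_mul, mul_comm, pow_mul, ← hy, pow_orderOf_eq_one, one_pow])⟩
  have hlt : ‖(χ : G → ℂ) (y ^ q)‖ < q := lt_of_le_of_ne (hbound _) fun h => hyA.2 (by
    have hnt : χ ≠ Block.trivChar G := fun e => by
      rw [e, show charDegree ((Block.trivChar G : IrrCharacter G) : G → ℂ) = 1 by
        simp [charDegree, Block.trivChar_coe]] at hd
      exact hq.ne_one hd.symm
    have h1 := Block.mem_center_of_norm_eq χ.2 (Block.faithful_of_ne_triv hnt)
      (show (χ : G → ℂ) 1 = (q : ℂ) by rw [Block.apply_one_eq_charDegree, hd]) h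
    rw [Block.center_eq_bot (fun hab => hnc (by
      letI : CommGroup G := { (inferInstance : Group G) with mul_comm := hab }
      exact IsSimpleGroup.isCyclic)), mem_bot] at h1
    exact h1)
  have hsum : ∑ a ∈ R, ‖ψ a‖ ^ 2 < (R.card : ℝ) * (q : ℝ) ^ 2 := by
    have : (R.card : ℝ) * (q : ℝ) ^ 2 = ∑ _a ∈ R, (q : ℝ) ^ 2 := by simp
    rw [this]
    refine Finset.sum_lt_sum (fun a _ => pow_le_pow_left₀ (norm_nonneg _) (hbound _) 2)
      ⟨_, hyR, pow_lt_pow_left₀ hlt (norm_nonneg _) two_ne_zero⟩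
  rw [← hN', Nat.cast_mul] at hsum
  have h2 : (R.card : ℝ) ≤ r := by exact_mod_cast hRcard
  have h3 : (q : ℝ) ≤ N := by exact_mod_cast hle
  nlinarith [mul_le_mul_of_nonneg_right h2 (sq_nonneg (q : ℝ)),
    mul_le_mul_of_nonneg_left h3 (mul_nonneg (Nat.cast_nonneg (α := ℝ) q) (Nat.cast_nonneg r))]

/-- A character with zero mean on `Q` vanishes at `c` when the coset `cQ` is one class. -/
theorem apply_eq_zero_of_coset (χ : IrrCharacter G) (Q : Subgroup G)
    (hsum : ∑ x : Q, (χ : G → ℂ) x = 0) {c : G}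
    (hconj : ∀ x ∈ Q, ∃ w : G, w * c * w⁻¹ = c * x) : (χ : G → ℂ) c = 0 := by
  classical
  obtain ⟨n, ρ, -, hρ⟩ := χ.2
  set S : Module.End ℂ (Fin n → ℂ) := ∑ x : Q, ρ (x : G) with hS
  have hQ0 : (Nat.card Q : ℂ) ≠ 0 := Nat.cast_ne_zero.2 Nat.card_pos.ne'
  have habs : ∀ x : Q, ρ (x : G) * S = S := fun x => by
    rw [hS, Finset.mul_sum]
    exact Fintype.sum_equiv (Equiv.mulLeft x) _ _ fun y => by rw [← map_mul]; rfl
  set E : Module.End ℂ (Fin n → ℂ) := (Nat.card Q : ℂ)⁻¹ • S with hE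
  have hEE : E * E = E := by
    have h1 : S * S = (Nat.card Q : ℂ) • S := by
      nth_rw 1 [hS]
      rw [Finset.sum_mul, Finset.sum_congr rfl fun x _ => habs x, Finset.sum_const, Finset.card_univ,
        ← Nat.card_eq_fintype_card, Nat.cast_smul_eq_nsmul]
    rw [hE, smul_mul_assoc, mul_smul_comm, h1, smul_smul, smul_smul, mul_assoc, inv_mul_cancel₀ hQ0,
      mul_one]
  have hproj : LinearMap.IsProj (LinearMap.range E) E :=
    LinearMap.IsProj.mk (fun x => LinearMap.mem_range_self E x) fun x hx => by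
      obtain ⟨y, rfl⟩ := hx
      rw [← Module.End.mul_apply, hEE]
  have htr : LinearMap.trace ℂ _ E = 0 := by
    rw [hE, map_smul, hS, map_sum, smul_eq_mul, mul_eq_zero]
    refine Or.inr (Eq.trans (Finset.sum_congr rfl fun x _ => ?_) hsum)
    rw [← hρ]; rfl
  rw [hproj.trace, Nat.cast_eq_zero, Submodule.finrank_eq_zero, LinearMap.range_eq_bot] at htr
  have hS0 : S = 0 := by
    have h := congrArg (fun T => (Nat.card Q : ℂ) • T) htr
    simp only [hE, smul_smul, mul_inv_cancel₀ hQ0, one_smul, smul_zero] at h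
    exact h
  have h1 : ∑ x : Q, (χ : G → ℂ) (c * x) = 0 := by
    rw [Finset.sum_congr rfl (g := fun x : Q => LinearMap.trace ℂ _ (ρ c * ρ (x : G))) fun x _ => by
      rw [← map_mul, ← hρ]; rfl, ← map_sum, ← Finset.mul_sum, ← hS, hS0, mul_zero, map_zero]
  rw [Finset.sum_congr rfl (g := fun _ => (χ : G → ℂ) c) fun x _ => by
    obtain ⟨w, hw⟩ := hconj x x.2
    rw [← hw, χ.2.isClassFunction c w], Finset.sum_const, Finset.card_univ, ← Nat.card_eq_fintype_card,
    nsmul_eq_mul, mul_eq_zero] at h1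
  exact h1.resolve_left hQ0

/-- An element of order four in the normalizer when the automizer of a subgroup of order five is full. -/
theorem exists_quad (Q : Subgroup G) (hQ : Nat.card Q = 5) (hC : centralizer (Q : Set G) = Q)
    (he : (centralizer (Q : Set G)).relIndex (normalizer (Q : Set G)) = 4) :
    ∃ c : G, c ^ 4 = 1 ∧ ∀ v ∈ Q, c * v * c⁻¹ = v ^ 2 := by
  classical
  haveI : Fact (Nat.Prime 5) := ⟨by norm_num⟩
  haveI : IsCyclic Q := isCyclic_of_prime_card hQ
  haveI : Nontrivial Q := by rw [← Finite.one_lt_card_iff_nontrivial, hQ]; norm_num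
  obtain ⟨x, hx1⟩ := exists_ne (1 : Q)
  have hgen : ∀ v : Q, v ∈ zpowers x := fun v => by
    rw [zpowers_eq_top_of_prime_card hQ hx1]; exact mem_top v
  have haut : Nat.card (MulAut Q) = 4 := by
    rw [IsCyclic.card_mulAut, hQ, Nat.totient_prime (by norm_num)]
  have hsurj : Function.Surjective Q.normalizerMonoidHom := by
    rw [← MonoidHom.range_eq_top]
    refine eq_top_of_card_eq _ ?_
    rw [haut, ← he, relIndex, ← Subgroup.index_ker, Subgroup.normalizerMonoidHom_ker]
  haveI : Fintype (MulAut Q) := Fintype.ofFinite _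
  have hinj : Function.Injective fun σ : MulAut Q => σ x := fun σ τ h => MulEquiv.ext fun v => by
    obtain ⟨k, rfl⟩ := hgen v
    show σ (x ^ k) = τ (x ^ k)
    rw [map_zpow, map_zpow]
    exact congrArg (· ^ k) h
  have himg : (Finset.univ : Finset (MulAut Q)).image (fun σ => σ x) =
      (Finset.univ : Finset Q).erase 1 := by
    refine Finset.eq_of_subset_of_card_le (fun v hv => ?_) ?_
    · obtain ⟨σ, -, rfl⟩ := Finset.mem_image.1 hv
      exact Finset.mem_erase.2 ⟨fun h => hx1 (σ.injective (h.trans σ.map_one.symm)), Finset.mem_univ _⟩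
    · rw [Finset.card_image_of_injective _ hinj, Finset.card_erase_of_mem (Finset.mem_univ _),
        Finset.card_univ, Finset.card_univ, ← Nat.card_eq_fintype_card, ← Nat.card_eq_fintype_card,
        haut, hQ]
  have hx5 : orderOf x = 5 :=
    ((Nat.dvd_prime (by norm_num)).1 (hQ ▸ _root_.orderOf_dvd_natCard x)).resolve_left
      fun h => hx1 (orderOf_eq_one_iff.1 h)
  obtain ⟨σ, -, hσ⟩ : ∃ σ ∈ (Finset.univ : Finset (MulAut Q)), σ x = x ^ 2 := by
    refine Finset.mem_image.1 (himg ▸ Finset.mem_erase.2 ⟨fun h => ?_, Finset.mem_univ _⟩)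
    have := Nat.le_of_dvd (by norm_num) (orderOf_dvd_of_pow_eq_one h)
    omega
  obtain ⟨⟨d, hdN⟩, hd⟩ := hsurj σ
  have hact : ∀ v ∈ Q, d * v * d⁻¹ = v ^ 2 := by
    intro v hv
    obtain ⟨k, hk⟩ := hgen ⟨v, hv⟩
    have h1 : (σ ⟨v, hv⟩ : G) = d * v * d⁻¹ := by rw [← hd]; rfl
    have hk' : x ^ k = ⟨v, hv⟩ := hk
    rw [← h1, ← hk', map_zpow, hσ, show v = ((x ^ k : Q) : G) by rw [hk'], ← SubmonoidClass.coe_pow]
    congr 1
    rw [← zpow_natCast, ← zpow_natCast, ← zpow_mul, ← zpow_mul, mul_comm]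
  have hord : ∀ v ∈ Q, v ^ 5 = 1 := fun v hv => orderOf_dvd_iff_pow_eq_one.1
    ((Subgroup.orderOf_dvd_natCard _ hv).trans hQ.dvd)
  have hiter : ∀ n : ℕ, ∀ v ∈ Q, d ^ n * v * (d ^ n)⁻¹ = v ^ (2 ^ n) := by
    intro n
    induction n with
    | zero => intro v _; simp
    | succ n ih =>
      intro v hv
      rw [pow_succ' d n, show d * d ^ n * v * (d * d ^ n)⁻¹ = d * (d ^ n * v * (d ^ n)⁻¹) * d⁻¹ by group,
        ih v hv, hact _ (pow_mem hv _), ← pow_mul, ← pow_succ]
  have hd4 : d ^ 4 ∈ Q := by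
    nth_rw 1 [← hC]
    refine mem_centralizer_iff.2 fun v hv => ?_
    have h := hiter 4 v hv
    rw [show v ^ (2 ^ 4) = v by
      rw [show (2 : ℕ) ^ 4 = 5 * 3 + 1 by norm_num, pow_add, pow_mul, hord v hv, one_pow, one_mul,
        pow_one], mul_inv_eq_iff_eq_mul] at h
    exact h.symm
  refine ⟨d ^ 5, by rw [← pow_mul, show 5 * 4 = 4 * 5 by norm_num, pow_mul, hord _ hd4], fun v hv => ?_⟩
  rw [hiter 5 v hv, show (2 : ℕ) ^ 5 = 5 * 6 + 2 by norm_num, pow_add, pow_mul, hord v hv, one_pow, one_mul]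

variable {P : Sylow 3 G} [IsMulCommutative (P : Subgroup G)]

/-- The data at `q`. -/
theorem prime_setup [IsSimpleGroup G] (C : Cfg3 P) (hnc : ¬ ∀ a b : G, a * b = b * a) {q a : ℕ}
    [Fact q.Prime] (hq2 : q ≠ 2) (hq3 : q ≠ 3) (hcard : Nat.card G = 9 * 2 ^ a * q) :
    ∃ (φ ψ : IrrCharacter G) (s : ℤ) (Q : Sylow q G) (e n : ℕ), Nonempty (Shape Q e) ∧
      Nat.card (centralizer ((Q : Subgroup G) : Set G)) = q ∧ Nat.card (Q : Subgroup G) = q ∧
      n * e = 9 * 2 ^ a ∧ n % q = 1 ∧ 2 ≤ e ∧ e ∣ q - 1 ∧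
      (centralizer ((Q : Subgroup G) : Set G)).relIndex (normalizer ((Q : Subgroup G) : Set G)) = e ∧
      charDegree (φ : G → ℂ) = q ∧ ¬ 3 ∣ charDegree (ψ : G → ℂ) ∧
      ((charDegree (ψ : G → ℂ) + 1 = q ∧ s = -1) ∨ (charDegree (ψ : G → ℂ) = q + 1 ∧ s = 1)) ∧
      ∀ x ∈ (Q : Subgroup G), x ≠ 1 → (ψ : G → ℂ) x = (s : ℂ) := by
  have hq : q.Prime := Fact.out
  have hm : Nat.card G = q * (9 * 2 ^ a) := by rw [hcard]; ring
  have hqm : ¬ q ∣ 9 * 2 ^ a := fun h => by
    rcases hq.dvd_mul.1 h with h1 | h1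
    · rw [show (9 : ℕ) = 3 ^ 2 by norm_num] at h1
      exact hq3 ((Nat.prime_dvd_prime_iff_eq hq Nat.prime_three).1 (hq.dvd_of_dvd_pow h1))
    · exact hq2 ((Nat.prime_dvd_prime_iff_eq hq Nat.prime_two).1 (hq.dvd_of_dvd_pow h1))
  have hcyc : ¬ IsCyclic G := fun h => hnc fun x y => by
    letI := IsCyclic.commGroup (α := G); exact mul_comm x y
  obtain ⟨φ, ψ, e₁, e₂, hY, hφ, hψ3, hdeg⟩ :=
    C.exists_pair hnc hq hq2 hq3 (a := a) (b := 1) (by rw [hcard, pow_one])
  obtain ⟨Q, e, c, n, ⟨S⟩, hCQ, hn, hmod, -, he2, hed, -⟩ := block_setup (G := G) hq2 hm hqm (by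
    have := Nat.one_le_two_pow (n := a); omega)
  have hCq := centralizer_card hcyc hm hqm Q S.card_P φ hφ
  have hc : c = 1 := by
    rw [hCq] at hCQ
    exact (Nat.mul_eq_left hq.ne_zero).1 hCQ.symm
  rw [hc, mul_one] at hn
  refine ⟨φ, ψ, if charDegree (ψ : G → ℂ) = q + 1 then 1 else -1, Q, e, n, ⟨S⟩, hCq, S.card_P, hn,
    hmod, he2, hed, S.relIndex_eq, hφ, hψ3, ?_, fun x hx hx1 => ?_⟩
  · rcases hdeg with ⟨h, -, -⟩ | ⟨h, -, -⟩
    · exact Or.inl ⟨h, if_neg (by omega)⟩
    · exact Or.inr ⟨h, if_pos h⟩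
  have hxo : orderOf x = q := by
    rw [← Nat.card_zpowers, zpowers_eq_of_prime_card S.card_P hx hx1, S.card_P]
  have hvan : (φ : G → ℂ) x = 0 := MEleven.apply_eq_zero_of_defectZero φ (by
    show (charDegree (φ : G → ℂ)).factorization q = _
    rw [hφ, hq.factorization_self, hm, Nat.factorization_mul hq.ne_zero
      (fun h => hqm (by rw [h]; exact dvd_zero q)), Finsupp.add_apply, hq.factorization_self,
      Nat.factorization_eq_zero_of_not_dvd hqm]) hxo.symm.dvd
  have h1 := hY x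
  rw [C.Y_one_of_regular (by
    rw [hxo]; exact fun h => hq3 ((Nat.prime_dvd_prime_iff_eq Nat.prime_three hq).1 h).symm),
    hvan, mul_zero, zero_add] at h1
  rcases hdeg with ⟨h, -, he⟩ | ⟨h, -, he⟩ <;> rw [he] at h1
  · rw [if_neg (by omega)]; push_cast at h1 ⊢; linear_combination h1
  · rw [if_pos h]; push_cast at h1 ⊢; linear_combination -h1

/-- Five is impossible. -/
theorem five_false [IsSimpleGroup G] (C : Cfg3 P) (hnc : ¬ ∀ a b : G, a * b = b * a) {a : ℕ}
    (hcard : Nat.card G = 9 * 2 ^ a * 5) : False := by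
  classical
  haveI : Fact (Nat.Prime 5) := ⟨by norm_num⟩
  obtain ⟨φ, ψ, s, Q, e, n, ⟨S⟩, hCq, hQ, hn, hmod, he2, hed, hrel, hφ, hψ3, hdeg, hval⟩ :=
    prime_setup C hnc (q := 5) (by norm_num) (by norm_num) hcard
  have hcyc : ¬ IsCyclic G := fun h => hnc fun x y => by
    letI := IsCyclic.commGroup (α := G); exact mul_comm x y
  obtain ⟨hψ, rfl⟩ : charDegree (ψ : G → ℂ) = 4 ∧ s = -1 := by
    rcases hdeg with ⟨h, hs⟩ | ⟨h, -⟩
    · exact ⟨by omega, hs⟩
    · exact absurd ⟨2, by omega⟩ hψ3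
  have hord : ∀ v ∈ (Q : Subgroup G), v ^ 5 = 1 := fun v hv => orderOf_dvd_iff_pow_eq_one.1
    ((Subgroup.orderOf_dvd_natCard _ hv).trans hQ.dvd)
  have hsum : ∑ x : (Q : Subgroup G), (ψ : G → ℂ) x = 0 := by
    rw [← Finset.add_sum_erase _ _ (Finset.mem_univ (1 : (Q : Subgroup G))), OneMemClass.coe_one,
      Block.apply_one_eq_charDegree, hψ, Finset.sum_congr rfl (g := fun _ : (Q : Subgroup G) => ((-1 : ℤ) : ℂ)) fun (x : (Q : Subgroup G)) hx =>
        hval x x.2 fun h => Finset.ne_of_mem_erase hx (Subtype.ext h),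
      Finset.sum_const, Finset.card_erase_of_mem (Finset.mem_univ _), Finset.card_univ,
      ← Nat.card_eq_fintype_card, hQ]
    norm_num
  have hzero : ∀ t : G, (∀ v ∈ (Q : Subgroup G), t * v * t⁻¹ = v⁻¹) → (ψ : G → ℂ) t = 0 := by
    intro t ht
    refine apply_eq_zero_of_coset ψ (Q : Subgroup G) hsum fun v hv => ⟨v ^ 2, ?_⟩
    have h1 := ht _ (pow_mem hv 2)
    have h2 : (v ^ 2)⁻¹ * (v ^ 2)⁻¹ = v := by
      have h5 := hord v hv
      rw [← mul_inv_rev, ← pow_add, show 2 + 2 = 4 by norm_num]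
      exact inv_eq_of_mul_eq_one_right (by rw [← pow_succ]; exact h5)
    calc v ^ 2 * t * (v ^ 2)⁻¹ = t * (t⁻¹ * v ^ 2 * t) * (v ^ 2)⁻¹ := by group
      _ = t * (v ^ 2)⁻¹ * (v ^ 2)⁻¹ := by
        congr 2
        have h3 := ht _ (inv_mem (pow_mem hv 2))
        rw [inv_inv] at h3
        conv_lhs => rw [← h3]
        group
      _ = t * v := by rw [mul_assoc, h2]
  obtain rfl | rfl : e = 2 ∨ e = 4 := by
    have := Nat.le_of_dvd (by norm_num) hed
    norm_num at hed this
    interval_cases e <;> omega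
  · obtain ⟨t, x, hx, hx1, ht, hinv, hcount, -, hnd, -⟩ :=
      exists_inverting (p := 5) (by norm_num) Q hQ hCq hrel (dvd_refl 2)
    have hm : Nat.card G = 5 * (9 * 2 ^ a) := by rw [hcard]; ring
    obtain ⟨χ, hχX, hne, hX, hZ, hθ1, -, -, -, hθd, hcases, -⟩ := S.two_cases hcyc hm rfl (by norm_num)
    have h5m : ¬ 5 ∣ 9 * 2 ^ a := fun h => by
      rcases (show Nat.Prime 5 by norm_num).dvd_mul.1 h with h1 | h1
      · norm_num at h1
      · exact absurd ((show Nat.Prime 5 by norm_num).dvd_of_dvd_pow h1) (by norm_num)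
    have hψ1 : ψ ≠ one' G := fun h => by rw [h, charDegree_one'] at hψ; omega
    obtain ⟨hχd, hθ, hσχ, hσθ, hψχ⟩ : charDegree (χ : G → ℂ) = 4 ∧ charDegree (S.θ : G → ℂ) = 3 ∧
        S.σ χ = -1 ∧ S.σ S.θ = 1 ∧ ψ = χ := by
      rcases Gap.mem_block_or_dvd S hCq hm h5m ψ with h | h | h
      · rw [hX, Finset.mem_insert, Finset.mem_singleton] at h
        have he := h.resolve_left hψ1
        subst he
        rw [hψ] at hcases
        rcases hcases with ⟨-, -, h1, -⟩ | ⟨h1, h2, -, h3⟩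
        · omega
        · exact ⟨hψ, by omega, h1, h2, rfl⟩
      · have he := S.agree ψ h 1 (by rw [orderOf_one]; norm_num)
        rw [Block.apply_one_eq_charDegree, Block.apply_one_eq_charDegree, hψ, Nat.cast_inj] at he
        rcases hcases with ⟨-, -, h1, h2⟩ | ⟨-, -, h1, h2⟩ <;> omega
      · rw [hψ] at h; norm_num at h
    subst hψχ
    have hψt := hzero t hinv
    have ht2 : t ^ 2 = 1 := by rw [← ht, pow_orderOf_eq_one]
    have htr : ¬ 5 ∣ orderOf t := by rw [ht]; norm_num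
    have hrel' := S.rel t htr
    have hθψ : S.θ ≠ ψ := fun h => S.θ_notMem (h ▸ hχX)
    have hsplit : ∀ F : IrrCharacter G → ℂ, ∑ χ ∈ S.Z, F χ = F S.θ + F (one' G) + F ψ := fun F => by
      rw [hZ, Finset.sum_insert (by simp [hθ1, hθψ]), Finset.sum_pair hne.symm, ← add_assoc]
    rw [hsplit, hσθ, hσχ, S.sign_one, hψt, one'_apply] at hrel'
    push_cast at hrel'
    have hf := S.formula_int hCq htr htr hx hx1
    rw [hcount, hsplit, hσθ, hσχ, S.sign_one, hψt, one'_apply, one'_apply,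
      Block.apply_one_eq_charDegree, hθ,
      show (S.θ : G → ℂ) t = -1 by linear_combination hrel', hcard] at hf
    push_cast at hf
    set k := Nat.card (centralizer ({t} : Set G))
    have hk : k * k = 3 * 2 ^ (a + 2) := by
      have : (k : ℂ) * k = 3 * 2 ^ (a + 2) := by
        rw [pow_add]
        linear_combination hf / 5
      exact_mod_cast this
    have h3 : 3 ∣ k := (Nat.prime_three.dvd_mul.1 (hk ▸ dvd_mul_right 3 _)).elim id id
    obtain ⟨d, hd⟩ := h3
    rw [hd] at hk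
    have h4 : 3 ∣ 2 ^ (a + 2) := ⟨d * d, by linarith⟩
    exact absurd (Nat.prime_three.dvd_of_dvd_pow h4) (by norm_num)
  · have hCQ : centralizer ((Q : Subgroup G) : Set G) = (Q : Subgroup G) :=
      (eq_of_le_of_card_ge (Block.le_centralizer_self hQ) (by rw [hCq, hQ])).symm
    obtain ⟨c, hc4, hc⟩ := exists_quad (Q : Subgroup G) hQ hCQ hrel
    have hc0 : (ψ : G → ℂ) c = 0 := by
      refine apply_eq_zero_of_coset ψ (Q : Subgroup G) hsum fun v hv => ⟨v ^ 3, ?_⟩
      have h1 : c * v ^ 4 * c⁻¹ = v ^ 3 := by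
        rw [hc _ (pow_mem hv 4), ← pow_mul, show 4 * 2 = 5 + 3 by norm_num, pow_add, hord v hv, one_mul]
      calc v ^ 3 * c * (v ^ 3)⁻¹ = c * v ^ 4 * c⁻¹ * c * (v ^ 3)⁻¹ := by rw [h1]
        _ = c * v ^ (3 + 1) * (v ^ 3)⁻¹ := by group
        _ = c * v := by rw [pow_succ', mul_assoc, mul_assoc, mul_inv_cancel, mul_one]
    have hc2 : (ψ : G → ℂ) (c ^ 2) = 0 := hzero _ fun v hv => by
      rw [pow_two, show c * c * v * (c * c)⁻¹ = c * (c * v * c⁻¹) * c⁻¹ by group, hc v hv,
        hc _ (pow_mem hv 2)]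
      refine eq_inv_of_mul_eq_one_left ?_
      rw [← pow_mul, ← pow_succ]
      exact hord v hv
    have hc3 : (ψ : G → ℂ) (c ^ 3) = 0 := by
      rw [show c ^ 3 = c⁻¹ from (inv_eq_of_mul_eq_one_right (by rw [← pow_succ']; exact hc4)).symm,
        ψ.2.isCharacter.apply_inv, hc0, map_zero]
    obtain ⟨μ, hμv, hμr, hprod⟩ := exists_eigen hcyc ψ c hc4
    have hcount : ∀ ν : ℂ, ν ^ 4 = 1 → (Finset.univ.filter fun j => μ j = ν).card = 1 := by
      intro ν hν
      have h := sum_pow_inv_mul μ hμr hν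
      simp only [← hμv] at h
      rw [Finset.sum_range_succ, Finset.sum_range_succ, Finset.sum_range_succ, Finset.sum_range_succ,
        Finset.sum_range_zero] at h
      simp only [pow_one, pow_zero, hc0, hc2, hc3, Block.apply_one_eq_charDegree, hψ] at h
      have : ((Finset.univ.filter fun j => μ j = ν).card : ℂ) = 1 := by
        push_cast at h; linear_combination -h / 4
      exact_mod_cast this
    have hinj : Function.Injective μ := fun i j h =>
      Finset.card_le_one.1 (hcount (μ i) (hμr i)).le i (by simp) j (by simp [h])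
    have himg : Finset.univ.image μ = ({1, Complex.I, -1, -Complex.I} : Finset ℂ) := by
      refine (Finset.eq_of_subset_of_card_le (fun ν hν => ?_) ?_).symm
      · obtain ⟨j, hj⟩ := Finset.card_pos.1 (zero_lt_one.trans_eq (hcount ν (by
          simp only [Finset.mem_insert, Finset.mem_singleton] at hν
          rcases hν with rfl | rfl | rfl | rfl <;> norm_num [neg_pow, pow_succ, Complex.I_mul_I])).symm)
        exact Finset.mem_image.2 ⟨j, Finset.mem_univ _, (Finset.mem_filter.1 hj).2⟩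
      · rw [Finset.card_image_of_injective _ hinj, Finset.card_univ, Fintype.card_fin, hψ]
        rw [Finset.card_insert_of_notMem, Finset.card_insert_of_notMem, Finset.card_pair] <;>
          simp [Complex.ext_iff] <;> norm_num
    have h1 : (1 : ℂ) ∉ ({Complex.I, -1, -Complex.I} : Finset ℂ) := by
      simp [Complex.ext_iff]; norm_num
    have h2 : Complex.I ∉ ({-1, -Complex.I} : Finset ℂ) := by
      simp [Complex.ext_iff]; norm_num
    have h3 : (-1 : ℂ) ≠ -Complex.I := by simp [Complex.ext_iff]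
    rw [← Finset.prod_image (f := fun z : ℂ => z) fun i _ j _ h => hinj h, himg,
      Finset.prod_insert h1, Finset.prod_insert h2, Finset.prod_pair h3] at hprod
    simp at hprod
    norm_num at hprod

/-- At seven the Sylow 2-subgroup has order at most eight. -/
theorem seven_le [IsSimpleGroup G] (C : Cfg3 P) (hnc : ¬ ∀ a b : G, a * b = b * a) {a : ℕ}
    (hcard : Nat.card G = 9 * 2 ^ a * 7) : a ≤ 3 := by
  classical
  haveI : Fact (Nat.Prime 7) := ⟨by norm_num⟩
  obtain ⟨φ, ψ, s, Q, e, n, ⟨S⟩, hCq, hQ, hn, hmod, he2, hed, hrel, hφ, hψ3, hdeg, -⟩ :=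
    prime_setup C hnc (q := 7) (by norm_num) (by norm_num) hcard
  have hcyc : ¬ IsCyclic G := fun h => hnc fun x y => by
    letI := IsCyclic.commGroup (α := G); exact mul_comm x y
  have hψ : charDegree (ψ : G → ℂ) = 8 := by
    rcases hdeg with ⟨h, -⟩ | ⟨h, -⟩
    · exact absurd ⟨2, by omega⟩ hψ3
    · omega
  have hpow : 2 ^ a % 7 = 1 ∨ 2 ^ a % 7 = 2 ∨ 2 ^ a % 7 = 4 := by
    clear hcard hn
    induction a with
    | zero => exact Or.inl rfl
    | succ k ih => rw [pow_succ, Nat.mul_mod]; rcases ih with h | h | h <;> rw [h] <;> omega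
  obtain rfl : e = 2 := by
    have := Nat.le_of_dvd (by norm_num) hed
    norm_num at hed this
    interval_cases e <;> first | rfl | (norm_num at hed; done) | omega
  obtain ⟨t, x, hx, hx1, ht, hinv, hcount, hcount', -, -⟩ :=
    exists_inverting (p := 7) (by norm_num) Q hQ hCq hrel (dvd_refl 2)
  have hm : Nat.card G = 7 * (9 * 2 ^ a) := by rw [hcard]; ring
  have h7m : ¬ 7 ∣ 9 * 2 ^ a := by omega
  obtain ⟨χ, hχX, hne, hX, hZ, hθ1, -, -, -, hθd, hcases, -⟩ := S.two_cases hcyc hm rfl (by norm_num)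
  have hψ1 : ψ ≠ one' G := fun h => by rw [h, charDegree_one'] at hψ; omega
  obtain ⟨hθ, hσχ, hσθ, hψχ⟩ : charDegree (S.θ : G → ℂ) = 9 ∧
      S.σ χ = 1 ∧ S.σ S.θ = -1 ∧ ψ = χ := by
    rcases Gap.mem_block_or_dvd S hCq hm h7m ψ with h | h | h
    · rw [hX, Finset.mem_insert, Finset.mem_singleton] at h
      have he := h.resolve_left hψ1
      subst he
      rw [hψ] at hcases
      rcases hcases with ⟨h1, h2, -, h3⟩ | ⟨-, -, h1, -⟩
      · exact ⟨by omega, h1, h2, rfl⟩
      · omega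
    · have he := S.agree ψ h 1 (by rw [orderOf_one]; norm_num)
      rw [Block.apply_one_eq_charDegree, Block.apply_one_eq_charDegree, hψ, Nat.cast_inj] at he
      rcases hcases with ⟨-, -, h1, h2⟩ | ⟨-, -, h1, h2⟩ <;> omega
    · rw [hψ] at h; norm_num at h
  subst hψχ
  have ht2 : t ^ 2 = 1 := by rw [← ht, pow_orderOf_eq_one]
  have htr : ¬ 7 ∣ orderOf t := by rw [ht]; norm_num
  have hψt : (ψ : G → ℂ) t = 0 := by
    obtain ⟨L, b, hb, hL, hle, -⟩ := S.linBound (by norm_num) ht2 hinv hχX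
    obtain ⟨k, hk⟩ := invol_value hcyc ψ ht2
    rw [hb, hψ, Int.cast_inj] at hk
    rw [hσχ, hψ] at hL
    rw [hb, show b = 0 by push_cast at hk hL; omega, Int.cast_zero]
  have hθψ : S.θ ≠ ψ := fun h => S.θ_notMem (h ▸ hχX)
  have hsplit : ∀ F : IrrCharacter G → ℂ, ∑ χ ∈ S.Z, F χ = F S.θ + F (one' G) + F ψ := fun F => by
    rw [hZ, Finset.sum_insert (by simp [hθ1, hθψ]), Finset.sum_pair hne.symm, ← add_assoc]
  have hθt : (S.θ : G → ℂ) t = 1 := by
    have hrel' := S.rel t htr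
    rw [hsplit, hσθ, hσχ, S.sign_one, hψt, one'_apply] at hrel'
    push_cast at hrel'
    linear_combination -hrel'
  -- the involutions form one class
  have hclass : ∀ u : G, orderOf u = 2 → IsConj t u := by
    intro u hu
    by_contra hnu
    have hu2 : u ^ 2 = 1 := by rw [← hu, pow_orderOf_eq_one]
    have hf := S.formula_int hCq htr (show ¬ 7 ∣ orderOf u by rw [hu]; norm_num) hx hx1
    rw [hcount' u hu2 hnu, hsplit, hσθ, hσχ, S.sign_one, hψt, hθt, one'_apply, one'_apply,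
      one'_apply, Block.apply_one_eq_charDegree, hθ, hcard] at hf
    push_cast at hf
    simp only [zero_mul, zero_div, add_zero, one_mul] at hf
    have hG0 : (9 : ℂ) * 2 ^ a * 7 ≠ 0 := by norm_num
    have h9 : (S.θ : G → ℂ) u = 9 := by
      have := (mul_eq_zero.1 hf.symm).resolve_left hG0
      linear_combination -9 * this
    have : u = 1 := eq_one_of_apply_eq hθ1 (by
      rw [h9, Block.apply_one_eq_charDegree, hθ]; norm_num)
    rw [this, orderOf_one] at hu; omega
  set k := Nat.card (centralizer ({t} : Set G))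
  have hk : k * k = 2 ^ (a + 3) := by
    have hf := S.formula_int hCq htr htr hx hx1
    rw [hcount, hsplit, hσθ, hσχ, S.sign_one, hψt, hθt, one'_apply, one'_apply,
      Block.apply_one_eq_charDegree, hθ, hcard] at hf
    push_cast at hf
    have : (k : ℂ) * k = 2 ^ (a + 3) := by
      rw [pow_add]; linear_combination hf / 7
    exact_mod_cast this
  rcases Nat.eq_zero_or_pos a with rfl | ha
  · omega
  haveI : Fact (Nat.Prime 2) := ⟨Nat.prime_two⟩
  obtain ⟨T⟩ : Nonempty (Sylow 2 G) := inferInstance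
  have hT : Nat.card (T : Subgroup G) = 2 ^ a := by
    refine card_sylow a (9 * 7) (by rw [hcard]; ring) (by norm_num) T
  haveI : Nontrivial (T : Subgroup G) := by
    rw [← Finite.one_lt_card_iff_nontrivial, hT]; exact Nat.one_lt_two_pow (by omega)
  haveI := T.2.center_nontrivial
  obtain ⟨z, hz⟩ : ∃ z : Subgroup.center (T : Subgroup G), orderOf z = 2 := by
    refine exists_prime_orderOf_dvd_card' 2 ?_
    obtain ⟨j, hj⟩ := IsPGroup.iff_card.1 (T.2.to_subgroup (Subgroup.center (T : Subgroup G)))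
    rw [hj]
    refine dvd_pow_self 2 fun h0 => ?_
    rw [h0, pow_zero] at hj
    exact (Finite.one_lt_card (α := Subgroup.center (T : Subgroup G))).ne' hj
  obtain ⟨w, hw⟩ := isConj_iff.1 (hclass ((z : (T : Subgroup G)) : G) (by
    rw [orderOf_coe, orderOf_coe, hz]))
  have hdvd : 2 ^ a ∣ k := by
    rw [← hT, show k = Nat.card (centralizer ({((z : (T : Subgroup G)) : G)} : Set G)) by
      rw [← hw, MEleven.card_centralizer_conj]]
    refine card_dvd_of_le fun v hv => mem_centralizer_singleton_iff.2 ?_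
    exact congrArg Subtype.val (mem_center_iff.1 z.2 ⟨v, hv⟩)
  have h2 : 2 ^ (2 * a) ≤ 2 ^ (a + 3) := by
    rw [← hk, two_mul, pow_add]
    have := Nat.le_of_dvd Nat.card_pos hdvd
    exact Nat.mul_le_mul this this
  have := (Nat.pow_le_pow_iff_right (by norm_num : 1 < 2)).1 h2
  omega

end Cfsg.Lib.AbSection
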