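import Cfsg.Agent.Lib.Block.PPart
import Cfsg.Agent.Lib.Fusion.Abelian
import Mathlib.Analysis.Complex.Basic

/-!
# Averages of functions of the `p`-part with an abelian Sylow subgroup

For an abelian Sylow `p`-subgroup `P` a conjugation invariant function of the `p`-part has the same
average over `G` as over the normalizer of `P`.
-/

set_option autoImplicit false
set_option linter.unusedSectionVars false
set_option linter.style.haveILetI false

namespace Cfsg.Lib.AbSection

open Cfsg Cfsg.Lib.Block Subgroup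

universe u

variable {p : ℕ} [Fact p.Prime] {G : Type u} [Group G] [Fintype G] (P : Sylow p G)
  [IsMulCommutative (P : Subgroup G)]

open Classical in
/-- The number of `p`-regular elements of `H` commuting with `x`. -/
noncomputable def regC (p : ℕ) (H : Subgroup G) (x : G) : ℕ :=
  (Finset.univ.filter fun y => y ∈ H ∧ Commute x y ∧ ¬ p ∣ orderOf y).card

open Classical in
/-- The number of elements of `H` commuting with `x`. -/
noncomputable def cenC (H : Subgroup G) (x : G) : ℕ :=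
  (Finset.univ.filter fun y => y ∈ H ∧ Commute x y).card

open Classical in
/-- The number of `H`-conjugates of `x` in `P`. -/
noncomputable def fusC (H : Subgroup G) (x : G) : ℕ :=
  (Finset.univ.filter fun y => y ∈ (P : Subgroup G) ∧ ∃ h ∈ H, h * y * h⁻¹ = x).card

variable {P}

theorem pPt_mem {H : Subgroup G} {g : G} (hg : g ∈ H) : pPt p g ∈ H :=
  zpowers_le.2 hg (pPt_mem_zpowers g)

theorem pPt_of_mem {x : G} (hx : x ∈ (P : Subgroup G)) : pPt p x = x := by
  obtain ⟨k, hk⟩ := IsPGroup.iff_orderOf.1 P.isPGroup' ⟨x, hx⟩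
  rw [orderOf_mk] at hk
  exact (eq_pPt (mul_one x) (Commute.one_right x) hk (by simp [(Fact.out : p.Prime).ne_one])).symm

/-- Every `p`-part in `H ≥ P` is conjugate in `H` into `P`. -/
theorem exists_conj_mem {H : Subgroup G} (hPH : (P : Subgroup G) ≤ H) {g : G} (hg : g ∈ H) :
    ∃ h ∈ H, ∃ x ∈ (P : Subgroup G), h * x * h⁻¹ = pPt p g := by
  obtain ⟨k, hk⟩ := exists_orderOf_pPt (p := p) g
  have hP : IsPGroup p (zpowers (⟨pPt p g, pPt_mem hg⟩ : H)) :=
    IsPGroup.of_card (n := k) (by rw [Nat.card_zpowers, orderOf_mk, hk])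
  obtain ⟨Q, hQ⟩ := hP.exists_le_sylow
  obtain ⟨h, hh⟩ := MulAction.exists_smul_eq H (P.subtype hPH) Q
  rw [← hh, Sylow.coe_subgroup_smul] at hQ
  obtain ⟨x, hx, hxe⟩ := hQ (mem_zpowers _)
  exact ⟨h, h.2, x, hx, congrArg Subtype.val hxe⟩

/-- Burnside: fusion in `H` of elements of `P` happens in the normalizer. -/
theorem exists_normalizer {H : Subgroup G} (hPH : (P : Subgroup G) ≤ H) {x h : G} (hx : x ∈ (P : Subgroup G))
    (hh : h ∈ H) (hm : h * x * h⁻¹ ∈ (P : Subgroup G)) :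
    ∃ n ∈ H ⊓ normalizer ((P : Subgroup G) : Set G), n * x * n⁻¹ = h * x * h⁻¹ := by
  haveI : IsMulCommutative ((P.subtype hPH : Sylow p H) : Subgroup H) := ⟨⟨fun a b => by
    refine Subtype.ext (Subtype.ext ?_)
    have h := congrArg Subtype.val (mul_comm' (⟨((a : H) : G), a.2⟩ : (P : Subgroup G)) ⟨((b : H) : G), b.2⟩)
    exact h⟩⟩
  obtain ⟨n, hn, he⟩ := Fusion.exists_normalizer_conj_of_abelian (P.subtype hPH) (x := ⟨x, hPH hx⟩)
    (g := ⟨h, hh⟩) hx hm
  refine ⟨n, ⟨n.2, ?_⟩, congrArg Subtype.val he⟩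
  refine mem_normalizer_fintype fun y hy => ?_
  exact (mem_normalizer_iff.1 hn ⟨y, hPH hy⟩).1 hy

theorem regC_conj {H : Subgroup G} {h : G} (hh : h ∈ H) (x : G) :
    regC p H (h * x * h⁻¹) = regC p H x := by
  classical
  unfold regC
  refine Finset.card_bij' (fun y _ => h⁻¹ * y * h) (fun y _ => h * y * h⁻¹) ?_ ?_ ?_ ?_
  · intro y hy
    simp only [Finset.mem_filter, Finset.mem_univ, true_and] at hy ⊢
    refine ⟨mul_mem (mul_mem (inv_mem hh) hy.1) hh, ?_, ?_⟩
    · have := hy.2.1.map (MulAut.conj h⁻¹).toMonoidHom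
      simpa [mul_assoc] using this
    · rw [show h⁻¹ * y * h = MulAut.conj h⁻¹ y by simp, MulEquiv.orderOf_eq]
      exact hy.2.2
  · intro y hy
    simp only [Finset.mem_filter, Finset.mem_univ, true_and] at hy ⊢
    refine ⟨mul_mem (mul_mem hh hy.1) (inv_mem hh), hy.2.1.map (MulAut.conj h).toMonoidHom, ?_⟩
    rw [show h * y * h⁻¹ = MulAut.conj h y by simp, MulEquiv.orderOf_eq]
    exact hy.2.2
  · intro y _; group
  · intro y _; group

theorem cenC_conj {H : Subgroup G} {h : G} (hh : h ∈ H) (x : G) :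
    cenC H (h * x * h⁻¹) = cenC H x := by
  classical
  unfold cenC
  refine Finset.card_bij' (fun y _ => h⁻¹ * y * h) (fun y _ => h * y * h⁻¹) ?_ ?_ ?_ ?_
  · intro y hy
    simp only [Finset.mem_filter, Finset.mem_univ, true_and] at hy ⊢
    refine ⟨mul_mem (mul_mem (inv_mem hh) hy.1) hh, ?_⟩
    have := hy.2.map (MulAut.conj h⁻¹).toMonoidHom
    simpa [mul_assoc] using this
  · intro y hy
    simp only [Finset.mem_filter, Finset.mem_univ, true_and] at hy ⊢
    exact ⟨mul_mem (mul_mem hh hy.1) (inv_mem hh), hy.2.map (MulAut.conj h).toMonoidHom⟩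
  · intro y _; group
  · intro y _; group

theorem fusC_conj {H : Subgroup G} {h : G} (hh : h ∈ H) (x : G) :
    fusC P H (h * x * h⁻¹) = fusC P H x := by
  classical
  unfold fusC
  congr 1
  refine Finset.filter_congr fun y _ => and_congr_right fun _ => ?_
  constructor
  · rintro ⟨k, hk, he⟩
    exact ⟨h⁻¹ * k, mul_mem (inv_mem hh) hk, by
      rw [show h⁻¹ * k * y * (h⁻¹ * k)⁻¹ = h⁻¹ * (k * y * k⁻¹) * h by group, he]; group⟩
  · rintro ⟨k, hk, he⟩
    exact ⟨h * k, mul_mem hh hk, by rw [← he]; group⟩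

open Classical in
theorem sum_pPt {H : Subgroup G} (hPH : (P : Subgroup G) ≤ H) (f : G → ℂ)
    (hf : ∀ h ∈ H, ∀ x, f (h * x * h⁻¹) = f x) :
    ∑ g ∈ Finset.univ.filter (· ∈ H), f (pPt p g) = (Nat.card H : ℂ) *
      ∑ x ∈ Finset.univ.filter (· ∈ (P : Subgroup G)),
        f x * regC p H x / (cenC H x * fusC P H x) := by
  set φ : G → ℂ := fun z => f z * regC p H z / (cenC H z * fusC P H z) with hφ
  have hinv : ∀ h ∈ H, ∀ x, φ (h * x * h⁻¹) = φ x := fun h hh x => by
    simp only [hφ, hf h hh, regC_conj hh, cenC_conj hh, fusC_conj hh]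
  set pel := Finset.univ.filter fun z : G => z ∈ H ∧ pPt p z = z with hpel
  have hcard : (Nat.card H : ℂ) = ∑ h ∈ Finset.univ.filter (· ∈ H), (1 : ℂ) := by
    rw [Finset.sum_const, nsmul_eq_mul, mul_one]
    congr 1
    rw [Nat.card_eq_fintype_card, Fintype.card_subtype]
  rw [hcard, Finset.sum_mul_sum]
  simp only [one_mul]
  have hR : ∑ h ∈ Finset.univ.filter (· ∈ H), ∑ x ∈ Finset.univ.filter (· ∈ (P : Subgroup G)), φ x =
      ∑ hx ∈ Finset.univ.filter (fun hx : G × G => hx.1 ∈ H ∧ hx.2 ∈ (P : Subgroup G)),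
        φ (hx.1 * hx.2 * hx.1⁻¹) := by
    rw [← Finset.sum_product']
    refine Finset.sum_congr (by ext; simp) fun hx h => ?_
    rw [hinv]
    simp only [Finset.mem_filter, Finset.mem_univ, true_and] at h
    exact h.1
  rw [hR, ← Finset.sum_fiberwise_of_maps_to (g := fun g => pPt p g) (t := pel)
    (fun g hg => by
      simp only [Finset.mem_filter, Finset.mem_univ, true_and, hpel] at hg ⊢
      obtain ⟨k, hk⟩ := exists_orderOf_pPt (p := p) g
      exact ⟨pPt_mem hg, (eq_pPt (mul_one _) (Commute.one_right _) hk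
        (by simp [(Fact.out : p.Prime).ne_one])).symm⟩),
    ← Finset.sum_fiberwise_of_maps_to (g := fun hx : G × G => hx.1 * hx.2 * hx.1⁻¹) (t := pel)
    (fun hx h => by
      simp only [Finset.mem_filter, Finset.mem_univ, true_and, hpel] at h ⊢
      exact ⟨mul_mem (mul_mem h.1 (hPH h.2)) (inv_mem h.1), by rw [pPt_conj, pPt_of_mem h.2]⟩)]
  refine Finset.sum_congr rfl fun z hz => ?_
  obtain ⟨hzH, hzp⟩ := (Finset.mem_filter.1 hz).2
  rw [Finset.sum_congr rfl (g := fun _ => f z) (fun g hg => by rw [(Finset.mem_filter.1 hg).2]),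
    Finset.sum_const, nsmul_eq_mul]
  rw [Finset.sum_congr rfl (g := fun _ => φ z) (fun hx h => by rw [(Finset.mem_filter.1 h).2]),
    Finset.sum_const, nsmul_eq_mul]
  have h1 : ((Finset.univ.filter (· ∈ H)).filter fun g => pPt p g = z).card = regC p H z := by
    refine Finset.card_bij' (fun g _ => pReg p g) (fun y _ => z * y) ?_ ?_ ?_ ?_
    · intro g hg
      simp only [Finset.mem_filter, Finset.mem_univ, true_and] at hg ⊢
      exact ⟨zpowers_le.2 hg.1 (pReg_mem_zpowers g), hg.2 ▸ pPt_commute_pReg g, not_dvd_orderOf_pReg g⟩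
    · intro y hy
      simp only [Finset.mem_filter, Finset.mem_univ, true_and] at hy ⊢
      obtain ⟨k, hk⟩ := exists_orderOf_pPt (p := p) z
      rw [hzp] at hk
      exact ⟨mul_mem hzH hy.1, (eq_pPt rfl hy.2.1 hk hy.2.2).symm⟩
    · intro g hg
      simp only [Finset.mem_filter, Finset.mem_univ, true_and] at hg
      nth_rw 1 [← hg.2]; exact pPt_mul_pReg g
    · intro y hy
      simp only [Finset.mem_filter, Finset.mem_univ, true_and] at hy
      obtain ⟨k, hk⟩ := exists_orderOf_pPt (p := p) z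
      rw [hzp] at hk
      have h2 := pPt_mul_pReg (p := p) (z * y)
      rw [← eq_pPt rfl hy.2.1 hk hy.2.2] at h2
      exact mul_left_cancel h2
  set Y := Finset.univ.filter fun y => y ∈ (P : Subgroup G) ∧ ∃ h ∈ H, h * y * h⁻¹ = z with hY
  have h2 : ((Finset.univ.filter fun hx : G × G => hx.1 ∈ H ∧ hx.2 ∈ (P : Subgroup G)).filter
      fun hx => hx.1 * hx.2 * hx.1⁻¹ = z).card = cenC H z * fusC P H z := by
    rw [Finset.card_eq_sum_card_fiberwise (f := Prod.snd) (t := Y) (fun hx h => by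
      have h' := Finset.mem_filter.1 h
      exact Finset.mem_filter.2 ⟨Finset.mem_univ _, (Finset.mem_filter.1 h'.1).2.2,
        hx.1, (Finset.mem_filter.1 h'.1).2.1, h'.2⟩), fusC, ← hY, mul_comm, ← smul_eq_mul,
      ← Finset.sum_const]
    refine Finset.sum_congr rfl fun y hy => ?_
    obtain ⟨hyP, h₀, hh₀, he⟩ := (Finset.mem_filter.1 hy).2
    refine Finset.card_bij' (fun hx _ => hx.1 * h₀⁻¹) (fun c _ => (c * h₀, y)) ?_ ?_ ?_ ?_
    · rintro ⟨h, x⟩ hm
      simp only [Finset.mem_filter, Finset.mem_univ, true_and] at hm ⊢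
      obtain ⟨⟨⟨hh, -⟩, hz'⟩, rfl⟩ := hm
      refine ⟨mul_mem hh (inv_mem hh₀), ?_⟩
      show z * (h * h₀⁻¹) = h * h₀⁻¹ * z
      calc z * (h * h₀⁻¹) = h * x * h⁻¹ * (h * h₀⁻¹) := by rw [hz']
        _ = h * h₀⁻¹ * (h₀ * x * h₀⁻¹) := by group
        _ = h * h₀⁻¹ * z := by rw [he]
    · intro c hc
      simp only [Finset.mem_filter, Finset.mem_univ, true_and] at hc ⊢
      refine ⟨⟨⟨mul_mem hc.1 hh₀, hyP⟩, ?_⟩, trivial⟩
      rw [show c * h₀ * y * (c * h₀)⁻¹ = c * (h₀ * y * h₀⁻¹) * c⁻¹ by group, he, ← hc.2.eq,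
        mul_inv_cancel_right]
    · rintro ⟨h, x⟩ hm
      simp only [Finset.mem_filter, Finset.mem_univ, true_and] at hm
      obtain ⟨-, rfl⟩ := hm
      simp
    · intro c _; simp
  rw [h1, h2]
  have hc0 : (cenC H z : ℂ) ≠ 0 := Nat.cast_ne_zero.2 (Finset.card_ne_zero.2 ⟨1, by simp [one_mem]⟩)
  have hf0 : (fusC P H z : ℂ) ≠ 0 := Nat.cast_ne_zero.2 (by
    obtain ⟨h, hh, x, hx, he⟩ := exists_conj_mem hPH hzH
    exact Finset.card_ne_zero.2 ⟨x, Finset.mem_filter.2 ⟨Finset.mem_univ _, hx, h, hh, hzp ▸ he⟩⟩)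
  simp only [hφ, Nat.cast_mul]
  field_simp

theorem fusC_normalizer {H : Subgroup G} (hPH : (P : Subgroup G) ≤ H) {x : G} (hx : x ∈ (P : Subgroup G)) :
    fusC P (H ⊓ normalizer ((P : Subgroup G) : Set G)) x = fusC P H x := by
  classical
  unfold fusC
  congr 1
  refine Finset.filter_congr fun y _ => and_congr_right fun hy => ⟨?_, ?_⟩
  · rintro ⟨h, hh, he⟩; exact ⟨h, hh.1, he⟩
  · rintro ⟨h, hh, he⟩
    obtain ⟨n, hn, hne⟩ := exists_normalizer hPH hy hh (he ▸ hx)
    exact ⟨n, hn, hne.trans he⟩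

theorem inf_centralizer_eq (H : Subgroup G) (x : G) :
    cenC H x = Nat.card ↥(H ⊓ centralizer ({x} : Set G)) ∧
      regC p (H ⊓ centralizer ({x} : Set G)) 1 = regC p H x := by
  classical
  refine ⟨?_, ?_⟩
  · rw [cenC, Nat.card_eq_fintype_card, Fintype.card_subtype]
    congr 1
    refine Finset.filter_congr fun y _ => ?_
    rw [mem_inf, mem_centralizer_singleton_iff]
    exact and_congr_right fun _ => eq_comm
  · unfold regC
    congr 1
    refine Finset.filter_congr fun y _ => ?_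
    rw [mem_inf, mem_centralizer_singleton_iff]
    exact ⟨fun ⟨⟨a, b⟩, _, c⟩ => ⟨a, b.symm, c⟩, fun ⟨a, b, c⟩ => ⟨⟨a, b.symm⟩, Commute.one_left y, c⟩⟩

/-- The proportion of regular elements is seen in the normalizer. -/
theorem regC_ratio : ∀ (n : ℕ) (H : Subgroup G), Nat.card H = n → (P : Subgroup G) ≤ H →
    (regC p H 1 : ℂ) / Nat.card H =
      (regC p (H ⊓ normalizer ((P : Subgroup G) : Set G)) 1 : ℂ) /
        Nat.card ↥(H ⊓ normalizer ((P : Subgroup G) : Set G)) := by
  classical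
  intro n
  induction n using Nat.strong_induction_on with
  | _ n ih =>
  intro H hn hPH
  set N := H ⊓ normalizer ((P : Subgroup G) : Set G) with hN
  have hPN : (P : Subgroup G) ≤ N := le_inf hPH le_normalizer
  have e : ∀ {K : Subgroup G}, (P : Subgroup G) ≤ K →
      ∑ x ∈ Finset.univ.filter (· ∈ (P : Subgroup G)),
        (regC p K x : ℂ) / Nat.card ↥(K ⊓ centralizer ({x} : Set G)) / fusC P K x = 1 := by
    intro K hK
    have h := sum_pPt (p := p) (P := P) hK (fun _ => (1 : ℂ)) (fun _ _ _ => rfl)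
    rw [Finset.sum_const, nsmul_eq_mul, mul_one,
      show ((Finset.univ.filter (· ∈ K)).card : ℂ) = Nat.card K by
        rw [Nat.card_eq_fintype_card, Fintype.card_subtype]] at h
    have h0 : (Nat.card K : ℂ) ≠ 0 := Nat.cast_ne_zero.2 Nat.card_pos.ne'
    rw [eq_comm, mul_eq_left₀ h0] at h
    rw [← h]
    refine Finset.sum_congr rfl fun x _ => ?_
    rw [(inf_centralizer_eq (p := p) K x).1, one_mul, div_div]
  have hsub := Finset.sum_sub_distrib
    (s := Finset.univ.filter (· ∈ (P : Subgroup G)))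
    (fun x => (regC p H x : ℂ) / Nat.card ↥(H ⊓ centralizer ({x} : Set G)) / fusC P H x)
    (fun x => (regC p N x : ℂ) / Nat.card ↥(N ⊓ centralizer ({x} : Set G)) / fusC P N x)
  rw [e hPH, e hPN, sub_self] at hsub
  set D := (regC p H 1 : ℂ) / Nat.card H - (regC p N 1 : ℂ) / Nat.card N with hD
  have hterm : ∀ x ∈ Finset.univ.filter (· ∈ (P : Subgroup G)),
      (regC p H x : ℂ) / Nat.card ↥(H ⊓ centralizer ({x} : Set G)) / fusC P H x -
        (regC p N x : ℂ) / Nat.card ↥(N ⊓ centralizer ({x} : Set G)) / fusC P N x =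
      if H ≤ centralizer ({x} : Set G) then D / fusC P H x else 0 := by
    intro x hx
    have hxP : x ∈ (P : Subgroup G) := (Finset.mem_filter.1 hx).2
    rw [hN, fusC_normalizer hPH hxP, ← hN, ← sub_div, ← (inf_centralizer_eq (p := p) H x).2,
      ← (inf_centralizer_eq (p := p) N x).2]
    split_ifs with hc
    · rw [inf_eq_left.2 hc, inf_eq_left.2 (inf_le_left.trans hc)]
    · have hlt : Nat.card ↥(H ⊓ centralizer ({x} : Set G)) < n := by
        refine hn ▸ lt_of_le_of_ne (card_le_of_le inf_le_left) fun h => hc ?_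
        exact (eq_of_le_of_card_ge inf_le_left h.ge) ▸ inf_le_right
      have hPC : (P : Subgroup G) ≤ H ⊓ centralizer ({x} : Set G) := le_inf hPH fun y hy =>
        mem_centralizer_singleton_iff.2 (congrArg Subtype.val
          (mul_comm' (⟨y, hy⟩ : (P : Subgroup G)) ⟨x, hxP⟩))
      rw [ih _ hlt _ rfl hPC, inf_right_comm, ← hN, sub_self, zero_div]
  rw [Finset.sum_congr rfl hterm, ← Finset.sum_filter] at hsub
  by_contra hne
  have hD0 : D ≠ 0 := sub_ne_zero.2 hne
  simp only [div_eq_mul_inv, ← Finset.mul_sum, mul_eq_zero, hD0, false_or] at hsub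
  set T := (Finset.univ.filter (· ∈ (P : Subgroup G))).filter fun x => H ≤ centralizer ({x} : Set G)
  have hpos : (0 : ℝ) < ∑ x ∈ T, ((fusC P H x : ℝ))⁻¹ := by
    refine Finset.sum_pos (fun x hx => inv_pos.2 (Nat.cast_pos.2 (Finset.card_pos.2 ?_))) ⟨1, ?_⟩
    · have hxP := (Finset.mem_filter.1 (Finset.mem_filter.1 hx).1).2
      exact ⟨x, Finset.mem_filter.2 ⟨Finset.mem_univ _, hxP, 1, one_mem _, by group⟩⟩
    · exact Finset.mem_filter.2 ⟨Finset.mem_filter.2 ⟨Finset.mem_univ _, one_mem _⟩,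
        fun y _ => mem_centralizer_singleton_iff.2 (by rw [one_mul, mul_one])⟩
  have : ((∑ x ∈ T, ((fusC P H x : ℝ))⁻¹ : ℝ) : ℂ) = 0 := by push_cast; exact hsub
  exact hpos.ne' (Complex.ofReal_eq_zero.1 this)

variable (P) in
open Classical in
/-- The average of a conjugation invariant function of the `p`-part. -/
theorem sum_eq_normalizer (f : G → ℂ) (hf : ∀ h x, f (h * x * h⁻¹) = f x) :
    (∑ g, f (pPt p g)) / Nat.card G =
      (∑ g ∈ Finset.univ.filter (· ∈ normalizer ((P : Subgroup G) : Set G)), f (pPt p g)) /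
        Nat.card ↥(normalizer ((P : Subgroup G) : Set G)) := by
  set N := normalizer ((P : Subgroup G) : Set G) with hN
  have hT := sum_pPt (p := p) (P := P) (H := ⊤) le_top f fun h _ => hf h
  have hPN : (P : Subgroup G) ≤ N := le_normalizer
  rw [sum_pPt hPN f fun h _ => hf h]
  rw [show (Finset.univ.filter (· ∈ (⊤ : Subgroup G))) = Finset.univ by ext; simp,
    show Nat.card ↥(⊤ : Subgroup G) = Nat.card G from card_top] at hT
  rw [hT, mul_div_cancel_left₀ _ (Nat.cast_ne_zero.2 Nat.card_pos.ne'),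
    mul_div_cancel_left₀ _ (Nat.cast_ne_zero.2 Nat.card_pos.ne')]
  refine Finset.sum_congr rfl fun x hx => ?_
  have hxP : x ∈ (P : Subgroup G) := (Finset.mem_filter.1 hx).2
  have hNe : (⊤ : Subgroup G) ⊓ N = N := top_inf_eq N
  have hPC : (P : Subgroup G) ≤ (⊤ : Subgroup G) ⊓ centralizer ({x} : Set G) := le_inf le_top fun y hy =>
    mem_centralizer_singleton_iff.2 (congrArg Subtype.val
      (mul_comm' (⟨y, hy⟩ : (P : Subgroup G)) ⟨x, hxP⟩))
  have h := regC_ratio (p := p) (P := P) _ _ rfl hPC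
  rw [inf_right_comm, ← hN, hNe, (inf_centralizer_eq (p := p) (⊤ : Subgroup G) x).2,
    (inf_centralizer_eq (p := p) N x).2, ← (inf_centralizer_eq (p := p) (⊤ : Subgroup G) x).1,
    ← (inf_centralizer_eq (p := p) N x).1] at h
  have hfu := fusC_normalizer (P := P) (H := ⊤) le_top hxP
  rw [← hN, hNe] at hfu
  have e : ∀ a r c F : ℂ, a * r / (c * F) = a * (r / c) / F := fun a r c F => by ring
  rw [hfu, e, e, h]

end Cfsg.Lib.AbSection
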