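import Cfsg.Agent.Lib.AbSection.Sum
import Cfsg.Agent.Lib.Block.StarProduct
import Cfsg.Agent.Lib.SmithTyrer.Principal
import Cfsg.Agent.Lib.Char.RealOddDegree
import Mathlib.GroupTheory.FiniteAbelian.Duality

/-!
# The generalized character of norm two attached to an invariant subgroup of index three

`P` is an abelian Sylow 3-subgroup and `K` a subgroup of index three normalized by `N(P)`.  The
function `1` on the elements whose 3-part is conjugate into `K` and `-2` elsewhere is a generalized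
character; when `N(P)` inverts `P/K` it is orthogonal to the trivial character and has norm two.
-/

set_option autoImplicit false
set_option linter.unusedSectionVars false
set_option linter.style.haveILetI false
set_option maxHeartbeats 800000

namespace Cfsg.Lib.AbSection

open Cfsg Cfsg.Lib Cfsg.Lib.Block Subgroup
open scoped ComplexConjugate commutatorElement

universe u

variable {G : Type u} [Group G] [Fintype G]

noncomputable local instance (priority := high) fintypeSubgroupAbSectionThree {A : Type u} [Group A]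
    [Fintype A] (H : Subgroup A) : Fintype H := Fintype.ofFinite H

local instance : Fact (Nat.Prime 3) := ⟨by norm_num⟩

/-- The configuration: a linear character of order three of the Sylow subgroup whose kernel is
normalized by `N(P)`. -/
structure Cfg3 (P : Sylow 3 G) where
  lam : (P : Subgroup G) →* ℂˣ
  ne_one : lam ≠ 1
  cube : ∀ x, lam x ^ 3 = 1
  inv : ∀ (x y : (P : Subgroup G)) (n : G), n ∈ normalizer ((P : Subgroup G) : Set G) →
    n * (x : G) * n⁻¹ = y → lam x = 1 → lam y = 1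

theorem exists_cfg3 (P : Sylow 3 G) [IsMulCommutative (P : Subgroup G)] (K : Subgroup G)
    (hKP : K ≤ (P : Subgroup G)) (hidx : K.relIndex (P : Subgroup G) = 3)
    (hinv : ∀ n ∈ normalizer ((P : Subgroup G) : Set G), ∀ x ∈ K, n * x * n⁻¹ ∈ K) :
    ∃ C : Cfg3 P, ∀ x : (P : Subgroup G), C.lam x = 1 ↔ (x : G) ∈ K := by
  classical
  letI : CommGroup (P : Subgroup G) := { (inferInstance : Group (P : Subgroup G)) with
    mul_comm := fun a b => mul_comm' a b }
  set K' := K.subgroupOf (P : Subgroup G) with hK'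
  have hcard : Nat.card ((P : Subgroup G) ⧸ K') = 3 := hidx
  obtain ⟨a, ha⟩ : ∃ a : (P : Subgroup G) ⧸ K', a ≠ 1 := by
    haveI : Nontrivial ((P : Subgroup G) ⧸ K') :=
      Finite.one_lt_card_iff_nontrivial.1 (by omega)
    exact exists_ne 1
  obtain ⟨φ, hφ⟩ := CommGroup.exists_apply_ne_one_of_hasEnoughRootsOfUnity
    ((P : Subgroup G) ⧸ K') ℂ ha
  have hinj : Function.Injective φ := by
    refine (MonoidHom.ker_eq_bot_iff φ).1 ?_
    haveI : Fact (Nat.card ((P : Subgroup G) ⧸ K')).Prime := ⟨by rw [hcard]; norm_num⟩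
    refine φ.ker.eq_bot_or_eq_top_of_prime_card.resolve_right fun h => hφ ?_
    exact MonoidHom.mem_ker.1 (h ▸ mem_top a)
  have hker : ∀ x : (P : Subgroup G), φ.comp (QuotientGroup.mk' K') x = 1 ↔ (x : G) ∈ K := fun x => by
    rw [MonoidHom.comp_apply, map_eq_one_iff φ hinj, QuotientGroup.mk'_apply, QuotientGroup.eq_one_iff,
      hK', mem_subgroupOf]
  refine ⟨⟨φ.comp (QuotientGroup.mk' K'), fun h => hφ ?_, fun x => ?_, fun x y n hn he hx => ?_⟩, hker⟩
  · obtain ⟨x, rfl⟩ := QuotientGroup.mk'_surjective K' a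
    exact DFunLike.congr_fun h x
  · have h := pow_card_eq_one' (x := QuotientGroup.mk' K' x)
    rw [hcard] at h
    rw [MonoidHom.comp_apply, ← map_pow, h, map_one]
  · rw [hker] at hx ⊢
    exact he ▸ hinv n hn x hx

variable {P : Sylow 3 G} [IsMulCommutative (P : Subgroup G)] (C : Cfg3 P)

namespace Cfg3

/-- The kernel, as a subgroup of `G`. -/
noncomputable def K : Subgroup G := C.lam.ker.map (P : Subgroup G).subtype

theorem mem_K {x : G} : x ∈ C.K ↔ ∃ h : x ∈ (P : Subgroup G), C.lam ⟨x, h⟩ = 1 := by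
  constructor
  · rintro ⟨⟨y, hy⟩, hy1, rfl⟩; exact ⟨hy, hy1⟩
  · rintro ⟨h, h1⟩; exact ⟨⟨x, h⟩, h1, rfl⟩

open Classical in
/-- The indicator of the elements whose 3-part avoids the kernel. -/
noncomputable def J (z : G) : ℂ := if ∃ c : G, c * z * c⁻¹ ∈ C.K then 0 else 1

/-- The character: `1` or `-2`. -/
noncomputable def Y (g : G) : ℂ := 1 - 3 * C.J (pPt 3 g)

theorem J_conj (h z : G) : C.J (h * z * h⁻¹) = C.J z := by
  classical
  unfold J
  refine if_congr ⟨?_, ?_⟩ rfl rfl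
  · rintro ⟨c, hc⟩
    exact ⟨c * h, by rw [show c * h * z * (c * h)⁻¹ = c * (h * z * h⁻¹) * c⁻¹ by group]; exact hc⟩
  · rintro ⟨c, hc⟩
    exact ⟨c * h⁻¹, by rw [show c * h⁻¹ * (h * z * h⁻¹) * (c * h⁻¹)⁻¹ = c * z * c⁻¹ by group]; exact hc⟩

theorem J_apply {x : G} (hx : x ∈ (P : Subgroup G)) [Decidable (C.lam ⟨x, hx⟩ = 1)] :
    C.J x = if C.lam ⟨x, hx⟩ = 1 then 0 else 1 := by
  classical
  unfold J
  refine if_congr ⟨?_, fun h => ⟨1, by simpa using C.mem_K.2 ⟨hx, h⟩⟩⟩ rfl rfl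
  rintro ⟨c, hc⟩
  obtain ⟨hm, h1⟩ := C.mem_K.1 hc
  obtain ⟨n, hn, he⟩ := exists_normalizer (P := P) (H := ⊤) le_top hx (mem_top c) hm
  refine C.inv ⟨_, hm⟩ ⟨x, hx⟩ n⁻¹ (inv_mem hn.2) ?_ h1
  show n⁻¹ * (c * x * c⁻¹) * n⁻¹⁻¹ = x
  rw [← he]; group

omit [IsMulCommutative (P : Subgroup G)] in
theorem lam_cases (x : (P : Subgroup G)) :
    (C.lam x = 1 ∧ (C.lam x : ℂ) + ((C.lam x)⁻¹ : ℂˣ) = 2) ∨
      (C.lam x ≠ 1 ∧ (C.lam x : ℂ) + ((C.lam x)⁻¹ : ℂˣ) = -1) := by
  by_cases h : C.lam x = 1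
  · exact Or.inl ⟨h, by rw [h]; norm_num⟩
  refine Or.inr ⟨h, ?_⟩
  have h3 : (C.lam x : ℂ) ^ 3 = 1 := by rw [← Units.val_pow_eq_pow_val, C.cube, Units.val_one]
  have hne : (C.lam x : ℂ) - 1 ≠ 0 := sub_ne_zero.2 fun e => h (Units.ext e)
  have hinv : (((C.lam x)⁻¹ : ℂˣ) : ℂ) = (C.lam x : ℂ) ^ 2 := by
    rw [inv_eq_of_mul_eq_one_right (show C.lam x * C.lam x ^ 2 = 1 by rw [← pow_succ']; exact C.cube x),
      Units.val_pow_eq_pow_val]
  rw [hinv]
  refine mul_left_cancel₀ hne ?_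
  linear_combination h3

theorem Y_eq {g : G} (h : pPt 3 g ∈ (P : Subgroup G)) :
    C.Y g = (C.lam ⟨_, h⟩ : ℂ) + ((C.lam ⟨_, h⟩)⁻¹ : ℂˣ) - 1 := by
  classical
  rw [Y, C.J_apply h]
  rcases C.lam_cases ⟨_, h⟩ with ⟨h1, h2⟩ | ⟨h1, h2⟩
  · rw [if_pos h1, h2]; norm_num
  · rw [if_neg h1, h2]; norm_num

theorem Y_conj (h g : G) : C.Y (h * g * h⁻¹) = C.Y g := by
  rw [Y, Y, pPt_conj, C.J_conj]

theorem Y_cases (g : G) : C.Y g = 1 ∨ C.Y g = -2 := by
  classical
  unfold Y J
  split_ifs <;> norm_num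

theorem J_cases (g : G) : C.J g = 0 ∨ C.J g = 1 := by
  classical
  unfold J
  split_ifs <;> simp

theorem Y_one_of_regular {g : G} (hg : ¬ 3 ∣ orderOf g) : C.Y g = 1 := by
  classical
  rw [Y, (pPt_eq_one_iff g).2 hg, C.J_apply (one_mem _), if_pos (show C.lam ⟨1, one_mem _⟩ = 1 from map_one C.lam)]
  norm_num

theorem isGeneralized : IsGeneralizedCharacter G C.Y := by
  classical
  refine Char.isGeneralizedCharacter_of_elementary (fun x y => C.Y_conj y x) fun E l hl hE => ?_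
  obtain ⟨Q, R, hQ, hR, hQR, hsup⟩ := exists_split_elementary (p := 3) hl hE
  obtain ⟨S, hS⟩ := hQ.exists_le_sylow
  obtain ⟨c, rfl⟩ := MulAction.exists_smul_eq G P S
  have hmem : ∀ e : E, c⁻¹ * pPt 3 (e : G) * c ∈ (P : Subgroup G) := fun e => by
    obtain ⟨q, hq, r, hr, he⟩ := exists_mul_of_mem_sup hQR (g := (e : G)) (by rw [hsup]; exact e.2)
    have h1 := pPt_mul_of_sup hQ hR hQR hq hr
    have h2 := hS hq
    rw [Sylow.coe_subgroup_smul] at h2
    obtain ⟨x, hx, hxe⟩ := h2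
    rw [← he, h1, ← hxe]
    show c⁻¹ * (c * x * c⁻¹) * c ∈ _
    rw [show c⁻¹ * (c * x * c⁻¹) * c = x by group]
    exact hx
  let ℓ : E →* ℂˣ := MonoidHom.mk' (fun e => C.lam ⟨_, hmem e⟩) fun e e' => by
    rw [← map_mul]
    congr 1
    apply Subtype.ext
    show c⁻¹ * pPt 3 ((e : G) * e') * c = c⁻¹ * pPt 3 (e : G) * c * (c⁻¹ * pPt 3 (e' : G) * c)
    rw [pPt_mul_mul hQ hR hQR (hsup.symm ▸ e.2) (hsup.symm ▸ e'.2)]
    group
  have h := (((Char.isIrrCharacter_linear ℓ).isGeneralized).add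
    (Char.isIrrCharacter_linear ℓ⁻¹).isGeneralized).sub
    (Char.isIrrCharacter_linear (1 : E →* ℂˣ)).isGeneralized
  convert h using 1
  funext e
  have hm : pPt 3 (c⁻¹ * (e : G) * c) ∈ (P : Subgroup G) := by
    have := pPt_conj (p := 3) (e : G) c⁻¹
    rw [inv_inv] at this
    rw [this]; exact hmem e
  have e1 : C.Y (e : G) = C.Y (c⁻¹ * (e : G) * c) := by
    conv_rhs => rw [show c⁻¹ * (e : G) * c = c⁻¹ * (e : G) * c⁻¹⁻¹ by group, C.Y_conj]
  rw [e1, C.Y_eq hm]
  have he : (⟨_, hm⟩ : (P : Subgroup G)) = ⟨_, hmem e⟩ := Subtype.ext (by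
    show pPt 3 (c⁻¹ * (e : G) * c) = c⁻¹ * pPt 3 (e : G) * c
    rw [show c⁻¹ * (e : G) * c = c⁻¹ * (e : G) * c⁻¹⁻¹ by group, pPt_conj, inv_inv])
  rw [he]
  simp [ℓ]

/-! ## The sums -/

/-- The elements of the normalizer fixing the character. -/
def T : Subgroup G where
  carrier := {n | n ∈ normalizer ((P : Subgroup G) : Set G) ∧
    ∀ x y : (P : Subgroup G), n * (x : G) * n⁻¹ = y → C.lam y = C.lam x}
  one_mem' := ⟨one_mem _, fun x y h => by
    rw [show x = y from Subtype.ext (by simpa using h)]⟩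
  mul_mem' := fun {a b} ha hb => ⟨mul_mem ha.1 hb.1, fun x y h => by
    have hm := (mem_normalizer_iff.1 hb.1 x).1 x.2
    rw [ha.2 ⟨_, hm⟩ y (by rw [← h]; group), hb.2 x ⟨_, hm⟩ rfl]⟩
  inv_mem' := fun {a} ha => ⟨inv_mem ha.1, fun x y h => by
    exact (ha.2 y x (by rw [← h]; group)).symm⟩

theorem le_T : (P : Subgroup G) ≤ C.T := fun n hn => ⟨le_normalizer hn, fun x y h => by
  rw [show y = (⟨n, hn⟩ : (P : Subgroup G)) * x * (⟨n, hn⟩ : (P : Subgroup G))⁻¹ from
    Subtype.ext (by simpa using h.symm)]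
  simp [mul_comm, mul_assoc]⟩

/-- Outside `T` the character is inverted. -/
theorem lam_inverted {n : G} (hn : n ∈ normalizer ((P : Subgroup G) : Set G)) (hT : n ∉ C.T)
    {x y : (P : Subgroup G)} (h : n * (x : G) * n⁻¹ = y) : C.lam y = (C.lam x)⁻¹ := by
  classical
  have hcy : ∀ a b : ℂˣ, a ^ 3 = 1 → b ^ 3 = 1 → a ≠ 1 → b = 1 ∨ b = a ∨ b = a⁻¹ := by
    intro a b ha hb ha1
    by_contra! hcon
    obtain ⟨h1, h2, h3⟩ := hcon
    have e : ∀ c : ℂˣ, c ^ 3 = 1 → c ≠ 1 → (c : ℂ) ^ 2 + c + 1 = 0 := fun c hc hc1 => by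
      refine (mul_eq_zero.1 (?_ : ((c : ℂ) - 1) * ((c : ℂ) ^ 2 + c + 1) = 0)).resolve_left
        (sub_ne_zero.2 fun e => hc1 (Units.ext e))
      have h : (c : ℂ) ^ 3 = 1 := by rw [← Units.val_pow_eq_pow_val, hc, Units.val_one]
      linear_combination h
    have hea := e a ha ha1
    have heb := e b hb h1
    have ha3 : (a : ℂ) ^ 3 = 1 := by rw [← Units.val_pow_eq_pow_val, ha, Units.val_one]
    have : ((b : ℂ) - a) * ((b : ℂ) - (a : ℂ) ^ 2) = 0 := by linear_combination heb + ha3 - (b : ℂ) * hea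
    rcases mul_eq_zero.1 this with h4 | h4
    · exact h2 (Units.ext (sub_eq_zero.1 h4))
    · refine h3 (Units.ext ?_)
      rw [inv_eq_of_mul_eq_one_right (show a * a ^ 2 = 1 by rw [← pow_succ']; exact ha),
        Units.val_pow_eq_pow_val]
      exact sub_eq_zero.1 h4
  -- the induced permutation of the values is a homomorphism
  let σ : (P : Subgroup G) →* ℂˣ := C.lam.comp (MonoidHom.mk' (fun z =>
    (⟨n * z * n⁻¹, (mem_normalizer_iff.1 hn z).1 z.2⟩ : (P : Subgroup G)))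
    fun a b => Subtype.ext (by simp [mul_assoc]))
  have hσ : ∀ z, C.lam z = 1 → σ z = 1 := fun z hz => C.inv z _ n hn rfl hz
  obtain ⟨a, hne⟩ : ∃ z, σ z ≠ C.lam z := by
    by_contra! hall
    refine hT ⟨hn, fun x' y' h' => ?_⟩
    rw [← hall x']
    exact congrArg C.lam (Subtype.ext h'.symm)
  have ha : C.lam a ≠ 1 := fun h1 => hne (by rw [hσ a h1, h1])
  have hσa : σ a = (C.lam a)⁻¹ := by
    rcases hcy _ (σ a) (C.cube a) (C.cube _) ha with h4 | h4 | h4
    · exfalso
      refine ha (C.inv ⟨_, (mem_normalizer_iff.1 hn a).1 a.2⟩ a n⁻¹ (inv_mem hn) ?_ h4)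
      show n⁻¹ * (n * a * n⁻¹) * n⁻¹⁻¹ = a
      group
    · exact absurd h4 hne
    · exact h4
  have key : ∀ z, σ z = (C.lam z)⁻¹ := fun z => by
    rcases hcy _ (C.lam z) (C.cube a) (C.cube z) ha with h4 | h4 | h4
    · rw [hσ z h4, h4, inv_one]
    · have := hσ (z * a⁻¹) (by rw [map_mul, map_inv, h4, mul_inv_cancel])
      rw [map_mul, map_inv, mul_inv_eq_one] at this
      rw [this, h4, hσa]
    · have := hσ (z * a) (by rw [map_mul, h4, inv_mul_cancel])
      rw [map_mul] at this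
      rw [eq_inv_of_mul_eq_one_left this, h4, hσa]
  rw [← key x]
  exact congrArg C.lam (Subtype.ext h.symm)

theorem pPt_mem_P {g : G} (hg : g ∈ normalizer ((P : Subgroup G) : Set G)) :
    pPt 3 g ∈ (P : Subgroup G) := by
  obtain ⟨h, hh, x, hx, he⟩ := exists_conj_mem (P := P) le_normalizer hg
  rw [← he]
  exact (mem_normalizer_iff.1 hh x).1 hx

open Classical in
/-- `λ` at the 3-part, zero off the normalizer. -/
noncomputable def L (g : G) : ℂ :=
  if h : pPt 3 g ∈ (P : Subgroup G) then (C.lam ⟨_, h⟩ : ℂ) else 0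

open Classical in
theorem sum_fibre {S : Subgroup G} (hPS : (P : Subgroup G) ≤ S)
    (hSN : S ≤ normalizer ((P : Subgroup G) : Set G)) (F : G → ℂ) :
    ∑ g ∈ Finset.univ.filter (· ∈ S), F g =
      ∑ y ∈ Finset.univ.filter (fun y => y ∈ S ∧ ¬ 3 ∣ orderOf y),
        ∑ x ∈ Finset.univ.filter (fun x => x ∈ (P : Subgroup G) ∧ Commute x y), F (x * y) := by
  rw [Finset.sum_sigma']
  refine Finset.sum_bij' (fun g _ => ⟨pReg 3 g, pPt 3 g⟩) (fun a _ => a.2 * a.1) ?_ ?_ ?_ ?_ ?_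
  · intro g hg
    simp only [Finset.mem_filter, Finset.mem_univ, true_and, Finset.mem_sigma] at hg ⊢
    exact ⟨⟨zpowers_le.2 hg (pReg_mem_zpowers g), not_dvd_orderOf_pReg g⟩, pPt_mem_P (hSN hg),
      pPt_commute_pReg g⟩
  · intro a ha
    simp only [Finset.mem_filter, Finset.mem_univ, true_and, Finset.mem_sigma] at ha ⊢
    exact mul_mem (hPS ha.2.1) ha.1.1
  · intro g _; exact pPt_mul_pReg g
  · rintro ⟨y, x⟩ ha
    simp only [Finset.mem_filter, Finset.mem_univ, true_and, Finset.mem_sigma] at ha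
    obtain ⟨k, hk⟩ := IsPGroup.iff_orderOf.1 P.isPGroup' ⟨x, ha.2.1⟩
    rw [orderOf_mk] at hk
    have h1 := eq_pPt (g := x * y) rfl ha.2.2 hk ha.1.2
    have h2 := pPt_mul_pReg (p := 3) (x * y)
    rw [← h1] at h2
    simp only [mul_left_cancel h2, ← h1]
  · intro g _; rw [pPt_mul_pReg]

open Classical in
theorem sum_L_regular {y : G} (hy : ¬ 3 ∣ orderOf y) (hyN : y ∈ normalizer ((P : Subgroup G) : Set G)) :
    ∑ x ∈ Finset.univ.filter (fun x => x ∈ (P : Subgroup G) ∧ Commute x y), C.L (x * y) =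
      if y ∈ C.T then 0 else
        ((Finset.univ.filter fun x => x ∈ (P : Subgroup G) ∧ Commute x y).card : ℂ) := by
  set D : Subgroup (P : Subgroup G) :=
    (centralizer ({y} : Set G)).subgroupOf (P : Subgroup G) with hD
  have hmem : ∀ x : (P : Subgroup G), x ∈ D ↔ Commute (x : G) y := fun x => by
    rw [hD, mem_subgroupOf, mem_centralizer_singleton_iff]; exact Iff.rfl
  have e : ∑ x ∈ Finset.univ.filter (fun x => x ∈ (P : Subgroup G) ∧ Commute x y), C.L (x * y) =
      ∑ d : D, ((C.lam.comp D.subtype d : ℂˣ) : ℂ) := by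
    refine Finset.sum_bij' (fun x hx => ⟨⟨x, (Finset.mem_filter.1 hx).2.1⟩, (hmem _).2 (Finset.mem_filter.1 hx).2.2⟩)
      (fun d _ => ((d : (P : Subgroup G)) : G)) (fun _ _ => Finset.mem_univ _)
      (fun d _ => Finset.mem_filter.2 ⟨Finset.mem_univ _, d.1.2, (hmem _).1 d.2⟩)
      (fun _ _ => rfl) (fun _ _ => rfl) fun x hx => ?_
    obtain ⟨hxP, hxy⟩ := (Finset.mem_filter.1 hx).2
    obtain ⟨k, hk⟩ := IsPGroup.iff_orderOf.1 P.isPGroup' ⟨x, hxP⟩
    rw [orderOf_mk] at hk
    have h1 : pPt 3 (x * y) = x := (eq_pPt rfl hxy hk hy).symm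
    unfold L
    rw [dif_pos (show pPt 3 (x * y) ∈ (P : Subgroup G) by rw [h1]; exact hxP)]
    simp only [MonoidHom.comp_apply, Subgroup.coe_subtype]
    congr 3
  rw [e]
  split_ifs with hyT
  · refine sum_hom_units_eq_zero ((Units.coeHom ℂ).comp (C.lam.comp D.subtype)) ?_
    intro h'
    have h : C.lam.comp D.subtype = 1 := MonoidHom.ext fun d => Units.ext (DFunLike.congr_fun h' d)
    obtain ⟨x, hx⟩ : ∃ x, C.lam x ≠ 1 := by
      by_contra! hall
      exact C.ne_one (MonoidHom.ext hall)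
    -- average over the powers of `y`
    letI : CommGroup (P : Subgroup G) := { (inferInstance : Group (P : Subgroup G)) with
      mul_comm := fun a b => mul_comm' a b }
    have hpw : ∀ i : ℕ, y ^ i ∈ C.T := fun i => pow_mem hyT i
    let c : ℕ → (P : Subgroup G) := fun i => ⟨y ^ i * x * (y ^ i)⁻¹,
      (mem_normalizer_iff.1 (hpw i).1 x).1 x.2⟩
    set o := orderOf y with ho
    set x' : (P : Subgroup G) := ∏ i ∈ Finset.range o, c i with hx'
    let σ : (P : Subgroup G) →* (P : Subgroup G) := MonoidHom.mk' (fun z =>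
      ⟨y * z * y⁻¹, (mem_normalizer_iff.1 hyN z).1 z.2⟩) fun a b => Subtype.ext (by simp [mul_assoc])
    have hσc : ∀ i, σ (c i) = c (i + 1) := fun i => Subtype.ext (by simp [σ, c, pow_succ', mul_assoc])
    have hc0 : c o = c 0 := Subtype.ext (by simp [c, ho, pow_orderOf_eq_one])
    have hfix : σ x' = x' := by
      rw [hx', map_prod, Finset.prod_congr rfl fun i _ => hσc i]
      have h1 := Finset.prod_range_succ' c o
      rw [Finset.prod_range_succ, hc0] at h1
      exact (mul_right_cancel h1).symm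
    have hD' : x' ∈ D := (hmem _).2 (by
      have h1 : y * (x' : G) * y⁻¹ = x' := congrArg Subtype.val hfix
      exact (mul_inv_eq_iff_eq_mul.1 h1).symm)
    have hlam : C.lam x' = C.lam x ^ o := by
      rw [hx', map_prod, Finset.prod_congr rfl (g := fun _ => C.lam x) fun i _ => (hpw i).2 x (c i) rfl,
        Finset.prod_const, Finset.card_range]
    have h1 : C.lam x' = 1 := DFunLike.congr_fun h ⟨x', hD'⟩
    rw [hlam] at h1
    refine hx (orderOf_eq_one_iff.1 (Nat.eq_one_of_dvd_coprimes ?_ (orderOf_dvd_of_pow_eq_one (C.cube x))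
      (orderOf_dvd_of_pow_eq_one h1)))
    exact (Nat.prime_three.coprime_iff_not_dvd).2 hy
  · have hone : C.lam.comp D.subtype = 1 := MonoidHom.ext fun d => by
      show C.lam (d : (P : Subgroup G)) = 1
      have hc := (hmem _).1 d.2
      have h := C.lam_inverted hyN hyT (x := (d : (P : Subgroup G))) (y := (d : (P : Subgroup G))) (by
        rw [← hc.eq, mul_inv_cancel_right])
      have h3 := C.cube (d : (P : Subgroup G))
      rw [pow_succ, pow_two] at h3
      rw [eq_inv_iff_mul_eq_one] at h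
      rwa [h, one_mul] at h3
    rw [hone]
    simp only [MonoidHom.one_apply, Units.val_one, Finset.sum_const, Finset.card_univ, nsmul_eq_mul,
      mul_one, Nat.cast_inj]
    rw [← Fintype.card_subtype]
    exact Fintype.card_congr ⟨fun d => ⟨d.1.1, d.1.2, (hmem _).1 d.2⟩,
      fun x => ⟨⟨x.1, x.2.1⟩, (hmem _).2 x.2.2⟩, fun _ => rfl, fun _ => rfl⟩

open Classical in
/-- The sum of `λ` at the 3-parts of the normalizer. -/
theorem sum_L :
    ∑ g ∈ Finset.univ.filter (· ∈ normalizer ((P : Subgroup G) : Set G)), C.L g =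
      (Nat.card ↥(normalizer ((P : Subgroup G) : Set G)) : ℂ) - Nat.card C.T := by
  set N := normalizer ((P : Subgroup G) : Set G) with hN
  have h1 := sum_fibre (P := P) (S := N) le_normalizer le_rfl C.L
  have h2 := sum_fibre (P := P) (S := N) le_normalizer le_rfl (fun g => if g ∈ C.T then (0 : ℂ) else 1)
  rw [Finset.sum_congr rfl fun y hy => C.sum_L_regular (Finset.mem_filter.1 hy).2.2
    (Finset.mem_filter.1 hy).2.1] at h1
  have h3 : ∀ y ∈ Finset.univ.filter (fun y => y ∈ N ∧ ¬ 3 ∣ orderOf y),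
      (∑ x ∈ Finset.univ.filter (fun x => x ∈ (P : Subgroup G) ∧ Commute x y),
        if x * y ∈ C.T then (0 : ℂ) else 1) = if y ∈ C.T then 0 else
        ((Finset.univ.filter fun x => x ∈ (P : Subgroup G) ∧ Commute x y).card : ℂ) := fun y _ => by
    rw [Finset.sum_congr rfl (g := fun _ => if y ∈ C.T then (0 : ℂ) else 1) fun x hx => by
      simp only [C.T.mul_mem_cancel_left (C.le_T (Finset.mem_filter.1 hx).2.1)]]
    split_ifs <;> simp
  rw [Finset.sum_congr rfl h3] at h2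
  rw [h1, ← h2]
  have hTN : C.T ≤ N := fun n hn => hn.1
  rw [Finset.sum_ite, Finset.sum_const_zero, zero_add, Finset.sum_const, nsmul_eq_mul, mul_one,
    Nat.card_eq_fintype_card, Nat.card_eq_fintype_card, Fintype.card_subtype, Fintype.card_subtype,
    eq_sub_iff_add_eq, ← Nat.cast_add, Nat.cast_inj]
  rw [← Finset.card_filter_add_card_filter_not (s := Finset.univ.filter (· ∈ N)) (p := (· ∈ C.T)),
    add_comm]
  congr 2
  ext g
  simp only [Finset.mem_filter, Finset.mem_univ, true_and]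
  exact ⟨fun h => ⟨hTN h, h⟩, And.right⟩

open Classical in
theorem index_T (hT : C.T ≠ normalizer ((P : Subgroup G) : Set G)) :
    Nat.card ↥(normalizer ((P : Subgroup G) : Set G)) = 2 * Nat.card C.T := by
  set N := normalizer ((P : Subgroup G) : Set G) with hN
  have hTN : C.T ≤ N := fun n hn => hn.1
  obtain ⟨a, ha, haT⟩ : ∃ a ∈ N, a ∉ C.T := by
    by_contra! h
    exact hT (le_antisymm hTN h)
  have hidx : C.T.relIndex N = 2 := relIndex_eq_two_iff.2 ⟨a, ha, fun b hb => by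
    by_cases hbT : b ∈ C.T
    · exact Or.inr ⟨hbT, fun hm => haT ((C.T.mul_mem_cancel_left hbT).1 hm)⟩
    · refine Or.inl ⟨⟨mul_mem hb ha, fun x y h => ?_⟩, hbT⟩
      have hm := (mem_normalizer_iff.1 ha x).1 x.2
      rw [C.lam_inverted hb hbT (x := ⟨_, hm⟩) (y := y) (by rw [← h]; group),
        C.lam_inverted ha haT (x := x) (y := ⟨_, hm⟩) rfl, inv_inv]⟩
  have := relIndex_mul_relIndex ⊥ C.T N bot_le hTN
  rw [relIndex_bot_left, relIndex_bot_left, hidx] at this
  omega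

theorem L_add_conj {g : G} (hg : g ∈ normalizer ((P : Subgroup G) : Set G)) :
    C.L g + conj (C.L g) = C.Y g + 1 := by
  classical
  have h := pPt_mem_P (P := P) hg
  rw [L, dif_pos h, C.Y_eq h]
  have hroot : conj (C.lam ⟨_, h⟩ : ℂ) = (((C.lam ⟨_, h⟩)⁻¹ : ℂˣ) : ℂ) :=
    Char.RealOdd.conj_linear C.lam ⟨_, h⟩
  rw [hroot]; ring

theorem Y_sq (g : G) : C.Y g * C.Y g = 2 - C.Y g := by
  rcases C.Y_cases g with h | h <;> rw [h] <;> norm_num

theorem conj_Y (g : G) : conj (C.Y g) = C.Y g := by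
  rcases C.Y_cases g with h | h <;> rw [h] <;> simp [map_neg, map_ofNat]

theorem sum_Y (hT : C.T ≠ normalizer ((P : Subgroup G) : Set G)) : ∑ g, C.Y g = 0 := by
  classical
  set N := normalizer ((P : Subgroup G) : Set G) with hN
  have h1 := sum_eq_normalizer P (fun z => 1 - 3 * C.J z) (fun h x => by rw [C.J_conj])
  change (∑ g, C.Y g) / _ = (∑ g ∈ _, C.Y g) / _ at h1
  have h0 : ∑ g ∈ Finset.univ.filter (· ∈ N), C.Y g = 0 := by
    rw [Finset.sum_congr rfl (g := fun g => C.L g + conj (C.L g) - 1) fun g hg => by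
        rw [C.L_add_conj (Finset.mem_filter.1 hg).2]; ring,
      Finset.sum_sub_distrib, Finset.sum_add_distrib, ← map_sum, C.sum_L, Finset.sum_const,
      nsmul_eq_mul, mul_one, ← Fintype.card_subtype, ← Nat.card_eq_fintype_card, C.index_T hT,
      map_sub, map_natCast, map_natCast]
    push_cast; ring
  rw [h0, zero_div, div_eq_zero_iff] at h1
  exact h1.resolve_right (Nat.cast_ne_zero.2 Nat.card_pos.ne')

theorem inner_one (hT : C.T ≠ normalizer ((P : Subgroup G) : Set G)) :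
    classInner C.Y (fun _ => 1) = 0 := by
  rw [Char.classInner_one_right, C.sum_Y hT, mul_zero]

theorem norm_two (hT : C.T ≠ normalizer ((P : Subgroup G) : Set G)) :
    classInner C.Y C.Y = 2 := by
  rw [classInner, Finset.sum_congr rfl (g := fun g => 2 - C.Y g) fun g _ => by rw [C.conj_Y, C.Y_sq],
    Finset.sum_sub_distrib, C.sum_Y hT, sub_zero, Finset.sum_const, Finset.card_univ, nsmul_eq_mul,
    ← Nat.card_eq_fintype_card, ← mul_assoc, inv_mul_cancel₀ (Nat.cast_ne_zero.2 Nat.card_pos.ne'),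
    one_mul]

theorem sum_J (hT : C.T ≠ normalizer ((P : Subgroup G) : Set G)) :
    3 * ∑ g, C.J (pPt 3 g) = (Nat.card G : ℂ) := by
  have h := C.sum_Y hT
  simp only [Y, Finset.sum_sub_distrib, Finset.sum_const, Finset.card_univ, nsmul_eq_mul, mul_one,
    ← Finset.mul_sum, ← Nat.card_eq_fintype_card] at h
  linear_combination -h

theorem T_ne (hnc : ¬ ∀ a b : G, a * b = b * a) [IsSimpleGroup G] :
    C.T ≠ normalizer ((P : Subgroup G) : Set G) := by
  intro hT
  have h1 := Fusion.pResidual_inf_eq_of_abelian P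
  have hle : ⁅(P : Subgroup G), normalizer ((P : Subgroup G) : Set G)⁆ ≤ C.K := by
    rw [commutator_le]
    intro x hx n hn
    have hnT : n ∈ C.T := hT.symm ▸ hn
    have hm := (mem_normalizer_iff.1 hn x⁻¹).1 (inv_mem hx)
    refine C.mem_K.2 ⟨?_, ?_⟩
    · rw [commutatorElement_def, mul_assoc, mul_assoc]
      rw [← mul_assoc n]
      exact mul_mem hx hm
    · have e := hnT.2 ⟨x⁻¹, inv_mem hx⟩ ⟨_, hm⟩ rfl
      have hsplit : (⟨⁅x, n⁆, by
          rw [commutatorElement_def, mul_assoc, mul_assoc, ← mul_assoc n]; exact mul_mem hx hm⟩ :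
          (P : Subgroup G)) = ⟨x, hx⟩ * ⟨_, hm⟩ := Subtype.ext (by
        show ⁅x, n⁆ = x * (n * x⁻¹ * n⁻¹)
        rw [commutatorElement_def]; group)
      rw [hsplit, map_mul, e, ← map_mul,
        show (⟨x, hx⟩ : (P : Subgroup G)) * ⟨x⁻¹, inv_mem hx⟩ = 1 from Subtype.ext (mul_inv_cancel x),
        map_one]
  rcases (inferInstance : (pResidual 3 G).Normal).eq_bot_or_eq_top with h | h
  · refine hnc fun a b => commutatorElement_eq_one_iff_mul_comm.1 ?_
    have h2 := Fusion.commutator_le_pResidual_of_abelian P (commutator_mem_commutator (mem_top a) (mem_top b))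
    exact mem_bot.1 (h ▸ h2)
  · rw [h, top_inf_eq] at h1
    refine C.ne_one (MonoidHom.ext fun x => ?_)
    obtain ⟨_, hx1⟩ := C.mem_K.1 (hle (h1.le x.2))
    exact hx1

end Cfg3

end Cfsg.Lib.AbSection
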